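import Cfsg.Agent.Lib.F2.Defs

/-!
# Members: `q`-groups `E` with `E = [E, x]`
-/

set_option autoImplicit false

namespace Cfsg.Agent.F2

open Subgroup Cfsg.Agent.OO Cfsg.Agent.Coprime
open scoped Pointwise commutatorElement

universe u

variable {G : Type u} [Group G] {p q r : ℕ} {x y g b n w u : G} {A B E H K Q U X : Subgroup G}

theorem mem_WW (h : g * x * g⁻¹ ∈ H) : g * x * g⁻¹ ∈ WW x H := subset_closure ⟨h, g, rfl⟩

theorem self_mem_WW (h : x ∈ H) : x ∈ WW x H := subset_closure ⟨h, 1, by simp⟩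

theorem WW_le_iff : WW x H ≤ K ↔ ∀ g, g * x * g⁻¹ ∈ H → g * x * g⁻¹ ∈ K :=
  ⟨fun h _ hg => h (mem_WW hg), fun h => (closure_le _).2 fun _ ⟨h1, g, e⟩ => e ▸ h g (e ▸ h1)⟩

theorem WW_le (x : G) (H : Subgroup G) : WW x H ≤ H := WW_le_iff.2 fun _ h => h

theorem WW_mono (h : H ≤ K) : WW x H ≤ WW x K := WW_le_iff.2 fun _ hg => mem_WW (h hg)

theorem norm_le_norm_WW (x : G) (H : Subgroup G) : 𝐍(H) ≤ 𝐍(WW x H) :=
  le_norm_closure fun a ha _ ⟨h1, g, e⟩ => ⟨conj_mem_of_norm ha h1, a * g, by rw [e]; group⟩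

theorem WW_normal (x : G) (H : Subgroup G) : WW x H ⊴ H :=
  ⟨WW_le x H, le_normalizer.trans (norm_le_norm_WW x H)⟩

theorem WW_conj (g x : G) (H : Subgroup G) : WW (g * x * g⁻¹) H = WW x H := by
  refine le_antisymm (WW_le_iff.2 fun a ha => ?_) (WW_le_iff.2 fun a ha => ?_)
  · have e : a * (g * x * g⁻¹) * a⁻¹ = a * g * x * (a * g)⁻¹ := by group
    rw [e] at ha ⊢
    exact mem_WW ha
  · have e : a * x * a⁻¹ = a * g⁻¹ * (g * x * g⁻¹) * (a * g⁻¹)⁻¹ := by group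
    rw [e] at ha ⊢
    exact mem_WW ha

theorem comm_le_WW (hx : x ∈ H) (hU : U ≤ H) : ⁅U, zpowers x⁆ ≤ WW x H :=
  (commutator_mono hU (zpowers_le.2 (self_mem_WW hx))).trans
    (commutator_le_right' (WW_normal x H).2)

theorem conj_closure_pair (g x y : G) :
    g •ᶜ closure ({x, y} : Set G) = closure ({g * x * g⁻¹, g * y * g⁻¹} : Set G) := by
  rw [conj_eq_map, MonoidHom.map_closure, Set.image_pair]
  rfl

theorem left_mem_pair (x y : G) : x ∈ closure ({x, y} : Set G) := subset_closure (by simp)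

theorem right_mem_pair (x y : G) : y ∈ closure ({x, y} : Set G) := subset_closure (by simp)

theorem pair_le (hx : x ∈ H) (hy : y ∈ H) : closure ({x, y} : Set G) ≤ H :=
  (closure_le _).2 (Set.insert_subset hx (Set.singleton_subset_iff.2 hy))

theorem conj_ne_top (h : H ≠ ⊤) (g : G) : g •ᶜ H ≠ ⊤ := fun e =>
  h (by rw [conj_eq_iff_eq_inv_conj, conj_top] at e; exact e)

/-- a `q`-group `E` with `E = [E, x]` -/
structure Mem (q : ℕ) (x : G) (E : Subgroup G) : Prop where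
  pg : IsPGroup q E
  norm : x ∈ 𝐍(E)
  comm : ⁅E, zpowers x⁆ = E

/-- the largest member inside a proper subgroup -/
def th (q : ℕ) (x : G) (H : Subgroup G) : Subgroup G := ⁅Op q H, zpowers x⁆

/-- a member generated by the commutators of one element -/
structure Cyc (q : ℕ) (x : G) (B : Subgroup G) (b : G) : Prop where
  mem : Mem q x B
  b_mem : b ∈ B
  le : B ≤ closure ({x, b * x * b⁻¹} : Set G)

theorem Mem.conj (h : Mem q x E) (g : G) : Mem q (g * x * g⁻¹) (g •ᶜ E) :=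
  ⟨isPGroup_conj.2 h.pg, by rw [norm_conj]; exact conj_mem_conj h.norm, by
    rw [← conj_zpowers, ← conj_commutator, h.comm]⟩

theorem Mem.of_eq (h : Mem q x E) (e : zpowers y = zpowers x) : Mem q y E :=
  ⟨h.pg, zpowers_le.2 h.norm (e ▸ mem_zpowers y), e ▸ h.comm⟩

theorem Mem.conj_norm (h : Mem q x E) (hn : n ∈ 𝐍(zpowers x)) : Mem q x (n •ᶜ E) :=
  (h.conj n).of_eq (by rw [← conj_zpowers, conj_eq_of_mem_norm hn])

theorem mem_bot' (q : ℕ) (x : G) : Mem q x ⊥ := ⟨IsPGroup.of_bot, by rw [norm_bot]; trivial, by simp⟩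

theorem th_le_Op (hx : x ∈ H) : th q x H ≤ Op q H :=
  commutator_le_left' (zpowers_le.2 ((Op_normal q H).2 hx))

theorem th_le (hx : x ∈ H) : th q x H ≤ H := (th_le_Op hx).trans (Op_le q H)

theorem Op_le_norm_th : Op q H ≤ 𝐍(th q x H) := le_norm_commutator_left _ _

theorem mem_norm_th (h1 : n ∈ 𝐍(H)) (h2 : n ∈ 𝐍(zpowers x)) : n ∈ 𝐍(th q x H) :=
  le_norm_commutator (A := zpowers n) (le_norm_Op q (zpowers_le.2 h1)) (zpowers_le.2 h2)
    (mem_zpowers n)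

theorem cent1_le_norm (x : G) : 𝐂[x] ≤ 𝐍(zpowers x) := cent_zpowers x ▸ cent_le_norm _

variable [Finite G]

theorem baer [Fact q.Prime] (hA : A ≤ X) (h : ∀ c ∈ X, IsPGroup q ↥(A ⊔ c •ᶜ A)) : A ≤ Op q X := by
  refine (map_subgroupOf_eq_of_le hA).ge.trans (map_mono
    (Core.le_pCore_iff_forall_sup_map_conj.2 fun c => ?_))
  rw [← conj_eq_map, ← subgroupOf_conj c.2, ← subgroupOf_sup hA (conj_le_of_mem c.2 hA)]
  exact isPGroup_subgroupOf (h c c.2) X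

namespace Cex

variable [hp : Fact p.Prime] (h : Cex p x)
include h

omit [Finite G] in
theorem ne_one : x ≠ 1 := fun e => hp.out.one_lt.ne (by rw [← h.ord, e, orderOf_one])

omit [Finite G] hp in
theorem card_X : ♯(zpowers x) = p := by rw [Nat.card_zpowers, h.ord]

omit hp in
theorem pg_X : IsPGroup p (zpowers x) := isPGroup_of_card_prime_pow (n := 1) (by rw [h.card_X, pow_one])

omit [Finite G] hp in
theorem conj (g : G) : Cex p (g * x * g⁻¹) where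
  ord := by rw [orderOf_conj, h.ord]
  core := fun K H hK h1 h2 h3 => h.core K (g⁻¹ •ᶜ H) hK
    (by rw [le_conj_iff_inv_conj_le, conj_eq_of_mem_norm (by rw [normalizer_eq_top]; trivial)]; exact h1)
    (by rw [mem_conj]; simpa using h2) (conj_ne_top h3 _)
  fit := h.fit
  h1 := fun H hH w hw => h.h1 H hH w (WW_conj g x H ▸ hw)
  h2 := fun y => by
    have := conj_ne_top (h.h2 (g⁻¹ * y * g)) g
    rwa [conj_closure_pair, show g * (g⁻¹ * y * g) * g⁻¹ = y by group] at this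

omit hp in
theorem norm_ne_top (hQ : Nil Q) (h1 : Q ≠ ⊥) : 𝐍(Q) ≠ ⊤ := fun e =>
  h1 (eq_bot_iff.2 (h.fit ▸ le_Fit ⟨le_top, e.ge⟩ hQ))

omit hp in
theorem norm_ne_top' [Fact q.Prime] (hQ : IsPGroup q Q) (h1 : Q ≠ ⊥) : 𝐍(Q) ≠ ⊤ :=
  h.norm_ne_top (nil_of_isPGroup hQ) h1

omit hp in
theorem cent1_ne_top (h1 : y ≠ 1) : 𝐂[y] ≠ ⊤ := fun e =>
  h.norm_ne_top (nil_of_ab (ab_of_isCyclic inferInstance)) (zpowers_eq_bot.not.2 h1)
    (eq_top_iff.2 (e ▸ cent1_le_norm y))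

theorem mem_Fit (hH : H ≠ ⊤) (hw : w ∈ WW x H) (h' : PiElt ({p} : Set ℕ)ᶜ w) : w ∈ Fit H := by
  obtain ⟨k, hk⟩ := h.h1 H hH w hw
  refine zpowers_le.2 hk (mem_zpowers_pow_iff.2 ?_)
  exact ((Nat.Prime.coprime_iff_not_dvd hp.out).2 ((isPiNum_compl_singleton hp.out).1 h')).pow_left k

variable [hq : Fact q.Prime] (hqp : q ≠ p)
include hqp

theorem le_Op (hH : H ≠ ⊤) (hE : E ≤ WW x H) (hpg : IsPGroup q E) : E ≤ Op q H :=
  le_Op_of_le_Fit hpg fun _ hw => h.mem_Fit hH (hE hw) ((piGrp_compl_of_isPGroup hpg hqp).piElt hw)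

omit [Finite G] in
theorem cop (hU : IsPGroup q U) [Finite U] : (♯U).Coprime ♯(zpowers x) := by
  obtain ⟨k, hk⟩ := IsPGroup.iff_card.1 hU
  rw [hk, h.card_X]
  exact ((Nat.coprime_primes hq.out hp.out).2 hqp).pow_left k

theorem mem_comm (hU : IsPGroup q U) (hx : x ∈ 𝐍(U)) : Mem q x ⁅U, zpowers x⁆ :=
  ⟨hU.to_le (commutator_le_left' (zpowers_le.2 hx)), le_norm_commutator_right _ _ (mem_zpowers x),
    coprime_commGid (zpowers_le.2 hx) (h.cop hqp hU) (.inl (sol_of_isPGroup hU))⟩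

theorem decomp (hU : IsPGroup q U) (hx : x ∈ 𝐍(U)) : ⁅U, zpowers x⁆ ⊔ U ⊓ 𝐂[x] = U := by
  rw [← cent_zpowers]
  exact coprime_cent_prod (zpowers_le.2 hx) (h.cop hqp hU) (.inl (sol_of_isPGroup hU))

theorem le_of_decomp (hU : IsPGroup q U) (hx : x ∈ 𝐍(U)) (h1 : ⁅U, zpowers x⁆ ≤ K)
    (h2 : U ⊓ 𝐂[x] ≤ K) : U ≤ K := (h.decomp hqp hU hx).ge.trans (sup_le h1 h2)

theorem mem_th (hx : x ∈ H) : Mem q x (th q x H) :=
  h.mem_comm hqp (Op_isPGroup q H) ((Op_normal q H).2 hx)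

theorem comm_le_Op (hH : H ≠ ⊤) (hx : x ∈ H) (hU : U ≤ H) (hpg : IsPGroup q U) (hn : x ∈ 𝐍(U)) :
    ⁅U, zpowers x⁆ ≤ Op q H :=
  h.le_Op hqp hH (comm_le_WW hx hU) (h.mem_comm hqp hpg hn).pg

theorem mem_le_Op (hH : H ≠ ⊤) (hx : x ∈ H) (hE : Mem q x E) (hle : E ≤ H) : E ≤ Op q H :=
  hE.comm.ge.trans (h.comm_le_Op hqp hH hx hle hE.pg hE.norm)

theorem le_th (hH : H ≠ ⊤) (hx : x ∈ H) (hE : Mem q x E) (hle : E ≤ H) : E ≤ th q x H :=
  hE.comm.ge.trans (commutator_mono (h.mem_le_Op hqp hH hx hE hle) le_rfl)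

theorem inf_norm_le (hU : IsPGroup q U) (hx : x ∈ 𝐍(U)) : U ⊓ 𝐍(zpowers x) ≤ 𝐂[x] := by
  rw [← cent_zpowers]
  exact le_cent_of_coprime inf_le_right
    (le_norm_inf (zpowers_le.2 hx) (le_normalizer.trans le_normalizer))
    (h.cop hqp (hU.to_le inf_le_left))

theorem exists_cyc (hU : IsPGroup q U) (hx : x ∈ 𝐍(U)) (hu : u ∈ U) :
    ∃ B b c, Cyc q x B b ∧ B ≤ ⁅U, zpowers x⁆ ∧ c ∈ U ⊓ 𝐂[x] ∧ u = b * c := by
  set L := closure ({x, u * x * u⁻¹} : Set G) with hL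
  have hxL : x ∈ L := left_mem_pair _ _
  have hn : zpowers x ≤ 𝐍(U) := zpowers_le.2 hx
  have hLU : L ≤ zpowers x ⊔ U := pair_le (mem_sup_left (mem_zpowers x))
    (mul_mem (mul_mem (mem_sup_right hu) (mem_sup_left (mem_zpowers x))) (inv_mem (mem_sup_right hu)))
  have e1 : zpowers x ⊔ U ⊓ L = L := by
    rw [← sup_inf_of_le_left (.inl hn) (zpowers_le.2 hxL), inf_eq_right.2 hLU]
  have hpg : IsPGroup q ↥(U ⊓ L) := hU.to_le inf_le_left
  have hn0 : x ∈ 𝐍(U ⊓ L) := mem_norm_inf hx (le_normalizer hxL)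
  obtain ⟨b0, hb0, e2⟩ := sz_eq_conj (N := U ⊓ L) (A := zpowers x) (B := u •ᶜ zpowers x)
    (zpowers_le.2 hn0) (by
      rw [sup_comm, e1, conj_zpowers]; exact zpowers_le.2 (right_mem_pair _ _))
    (h.cop hqp hpg) (card_conj _ _) (.inl (sol_of_isPGroup hpg))
  rw [← h.decomp hqp hpg hn0] at hb0
  obtain ⟨b, hb, c0, hc0, rfl⟩ := (mem_sup_norm_left
    (inf_le_left.trans (le_norm_commutator_left _ _))).1 hb0
  have hB := h.mem_comm hqp hpg hn0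
  have hbU : b ∈ U := (commutator_le_left' (zpowers_le.2 hn0) hb).1
  have hc : b⁻¹ * u ∈ U ⊓ 𝐂[x] := by
    have h1 : b⁻¹ * u ∈ U := U.mul_mem (U.inv_mem hbU) hu
    refine mem_inf.2 ⟨h1, h.inf_norm_le hqp hU hx (mem_inf.2 ⟨h1, conj_eq_self_iff.1 ?_⟩)⟩
    rw [← conj_conj, e2, ← conj_eq_map, conj_conj, inv_mul_cancel_left]
    exact conj_eq_of_mem_norm (cent1_le_norm x hc0.2)
  refine ⟨_, b, b⁻¹ * u, ⟨hB, hb, ?_⟩, commutator_mono inf_le_left le_rfl, hc, by group⟩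
  have e3 : b * x * b⁻¹ = u * x * u⁻¹ := by
    have := mem_cent1_iff_conj.1 hc.2
    calc b * x * b⁻¹ = b * (b⁻¹ * u * x * (b⁻¹ * u)⁻¹) * b⁻¹ := by rw [this]
      _ = _ := by group
  rw [e3]
  exact (commutator_le_left' (zpowers_le.2 hn0)).trans inf_le_right

omit hqp hq [Finite G] hp in
theorem trick (hB : Cyc q x B b) (hn : n ∈ 𝐍(zpowers x)) : ∃ H, H ≠ ⊤ ∧ x ∈ H ∧ B ≤ H ∧ n ∈ H := by
  have hx := left_mem_pair x (b * n)
  have hy := right_mem_pair x (b * n)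
  have h1 : B ≤ closure ({x, b * n} : Set G) := hB.le.trans (pair_le hx (by
    have := mul_mem (mul_mem hy (zpowers_le.2 hx (conj_mem_of_norm' hn (mem_zpowers x)))) (inv_mem hy)
    rwa [show b * n * (n⁻¹ * x * n) * (b * n)⁻¹ = b * x * b⁻¹ by group] at this))
  exact ⟨_, h.h2 (b * n), hx, h1, by simpa using mul_mem (inv_mem (h1 hB.b_mem)) hy⟩

/-- `B` and `B ^ n` lie in a common member -/
theorem trick2 (hB : Cyc q x B b) (hn : n ∈ 𝐍(zpowers x)) :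
    ∃ E, Mem q x E ∧ B ≤ E ∧ n •ᶜ B ≤ E := by
  obtain ⟨H, h1, h2, h3, h4⟩ := h.trick hB hn
  exact ⟨_, h.mem_th hqp h2, h.le_th hqp h1 h2 hB.mem h3,
    h.le_th hqp h1 h2 (hB.mem.conj_norm hn) (conj_le_of_mem h4 h3)⟩

theorem comm_le_of_cyc (hU : IsPGroup q U) (hx : x ∈ 𝐍(U))
    (hK : ∀ B b, Cyc q x B b → B ≤ ⁅U, zpowers x⁆ → B ≤ K) : ⁅U, zpowers x⁆ ≤ K := by
  refine commutator_le.2 fun u hu a ha => ?_
  obtain ⟨B, b, c, h1, h2, h3, rfl⟩ := h.exists_cyc hqp hU hx hu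
  have e : c * a * c⁻¹ = a := mem_cent1_iff_conj.1 (cent1_le_of_mem_zpowers ha h3.2)
  have : ⁅b * c, a⁆ = ⁅b, a⁆ := by
    rw [commutatorElement_def, commutatorElement_def]
    calc b * c * a * (b * c)⁻¹ * a⁻¹ = b * (c * a * c⁻¹) * b⁻¹ * a⁻¹ := by group
      _ = _ := by rw [e]
  rw [this]
  exact hK B b h1 h2 (h1.mem.comm ▸ commutator_mem_commutator h1.b_mem ha)

theorem mem_le_of_cyc (hE : Mem q x E) (hK : ∀ B b, Cyc q x B b → B ≤ E → B ≤ K) : E ≤ K :=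
  hE.comm.ge.trans (h.comm_le_of_cyc hqp hE.pg hE.norm fun B b h1 h2 => hK B b h1 (hE.comm ▸ h2))

theorem exists_cyc_ne (hE : Mem q x E) (h1 : E ≠ ⊥) : ∃ B b, Cyc q x B b ∧ B ≤ E ∧ B ≠ ⊥ := by
  by_contra! e
  exact h1 (eq_bot_iff.2 (h.mem_le_of_cyc hqp hE fun B b h2 h3 => (e B b h2 h3).le))

end Cex

end Cfsg.Agent.F2
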