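import Cfsg.Agent.Lib.F2.J1
import Cfsg.Agent.Lib.Coprime.SylowCount

/-!
# Counting the cosets of `J`
-/

set_option autoImplicit false

namespace Cfsg.Agent.F2

open Subgroup Cfsg.Agent.OO Cfsg.Agent.Coprime
open scoped Pointwise commutatorElement

universe u

variable {G : Type u} [Group G] {p q r : ℕ} {x y g a b c d l n w u : G}
  {A B E F H I K L M M' P Q Q' S T U X : Subgroup G}

/-- the commutators `[a, x]`, `a ∈ U` -/
def cs (x : G) (U : Subgroup G) : Set G := {b | ∃ a ∈ U, b = ⁅a, x⁆}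

theorem comm_eq_iff : ⁅a, x⁆ = ⁅b, x⁆ ↔ a⁻¹ * b ∈ 𝐂[x] := by
  rw [mem_cent1_iff_conj, commutatorElement_def, commutatorElement_def, mul_left_inj]
  constructor <;> intro e
  · calc _ = a⁻¹ * (b * x * b⁻¹) * a := by group
      _ = _ := by rw [← e]; group
  · calc _ = a * (a⁻¹ * b * x * (a⁻¹ * b)⁻¹) * a⁻¹ := by rw [e]
      _ = _ := by group

theorem comm_le_of_gen (hx : x ∈ 𝐍(U)) [Finite G] (h : ∀ a ∈ U, ⁅a, x⁆ ∈ T) : ⁅U, zpowers x⁆ ≤ T := by
  have key : ∀ k : ℕ, ∀ a ∈ U, ⁅a, x ^ k⁆ ∈ T := fun k => by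
    induction k with
    | zero => simp
    | succ k ih =>
      intro a ha
      have := T.mul_mem (h a ha) (ih _ (conj_mem_of_norm hx ha))
      convert this using 1
      simp only [commutatorElement_def, pow_succ']
      group
  refine commutator_le.2 fun a ha y hy => ?_
  obtain ⟨k, rfl⟩ := (mem_powers_iff_mem_zpowers.2 hy :)
  exact key k a ha

variable [Finite G]

theorem card_cs_le (x : G) (U : Subgroup G) : Nat.card (cs x U) ≤ 𝐂[x].relIndex U := by
  choose f h1 h2 using fun b : cs x U => b.2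
  refine Nat.card_le_card_of_injective
    (fun b => (QuotientGroup.mk ⟨f b, h1 b⟩ : U ⧸ 𝐂[x].subgroupOf U)) fun b b' e => ?_
  exact Subtype.ext (by rw [h2 b, h2 b']; exact comm_eq_iff.2 (mem_subgroupOf.1 (QuotientGroup.eq.1 e)))

theorem eq_of_constt (h : ∀ q : ℕ, q.Prime → constt {q} a = constt {q} b) : a = b := by
  have k1 : b ∈ zpowers a := mem_of_forall_constt_mem fun q hq _ => h q hq ▸ constt_mem_zpowers _ a
  have k2 : Commute a⁻¹ b := by
    obtain ⟨k, rfl⟩ := k1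
    exact (Commute.self_zpow a k).inv_left
  exact inv_mul_eq_one.1 (mem_bot.1 (mem_of_forall_constt_mem fun q hq _ => by
    rw [constt_mul_of_commute _ k2, constt_inv, h q hq, inv_mul_cancel]; exact one_mem _))

theorem constt_comm [Fact q.Prime] (ha : a ∈ Fit L) (hx : x ∈ L) :
    constt {q} ⁅a, x⁆ = ⁅constt {q} a, x⁆ := by
  have hu : constt {q} a ∈ Op q L := constt_mem_Op ha
  have hv : constt {q}ᶜ a ∈ Op' q (Fit L) := (hall_Opi_of_nil _ (Fit_nil L)).mem_of_normal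
    (Opi_normal _ _).2 (constt_mem _ ha) (piElt_constt _ a)
  have e := constt_mul_constt_compl {q} a
  generalize constt {q} a = u at *
  generalize constt {q}ᶜ a = v at *
  have k1 : ⁅u, x⁆ ∈ Op q L := by
    have := mul_mem hu ((Op_normal q L).conj_mem hx (inv_mem hu))
    rwa [← mul_assoc, ← mul_assoc] at this
  have k2 : ⁅v, x⁆ ∈ Op' q (Fit L) := by
    have := mul_mem hv (((Fit_normal L).Opi _).conj_mem hx (inv_mem hv))
    rwa [← mul_assoc, ← mul_assoc] at this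
  have hc : ∀ s ∈ Op q L, ∀ t ∈ Op' q (Fit L), s * t = t * s := fun s hs t ht =>
    mem_cent_iff.1 (Op'_le_cent_Op q _ ht) s ((Op_Fit q L).symm ▸ hs)
  have k3 : ⁅a, x⁆ = ⁅u, x⁆ * ⁅v, x⁆ := by
    rw [hc _ k1 _ k2]
    calc ⁅a, x⁆ = u * ⁅v, x⁆ * (x * u⁻¹ * x⁻¹) := by
          rw [← e]; simp only [commutatorElement_def]; group
      _ = _ := by rw [hc u hu _ k2]; simp only [commutatorElement_def]; group
  rw [k3]
  exact constt_eq_of_mul ((piGrp_singleton (Op_isPGroup q L)).piElt k1) ((Op'_piGrp q _).piElt k2)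
    (hc _ k1 _ k2)

/-- the cosets of `J` that come from primes with a largest member -/
def Om (p : ℕ) (x : G) (ω : G ⧸ JJ p x) : Prop := ∃ a L, L ≠ ⊤ ∧ x ∈ L ∧ a ∈ Fit L ∧
  PiElt ({p} : Set ℕ)ᶜ a ∧ (∀ q : ℕ, q.Prime → q ≠ p → ¬ Uq q x → th q x L = ⊥) ∧
  QuotientGroup.mk a = ω

open Classical in
/-- the primes with a largest member -/
noncomputable def piU (p : ℕ) (x : G) : Finset ℕ :=
  (Nat.card G).primeFactors.filter fun q => q ≠ p ∧ Uq q x

theorem mem_piU : q ∈ piU p x ↔ q.Prime ∧ q ∣ Nat.card G ∧ q ≠ p ∧ Uq q x := by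
  simp [piU, and_assoc, Nat.card_pos.ne']

namespace Cex

variable [hp : Fact p.Prime] (h : Cex p x)
include h

theorem relIndex_dvd [Fact q.Prime] (hqp : q ≠ p) (h1 : Asc q x Q M) :
    𝐂[x].relIndex (Op q M) ∣ (JJ p x).index := by
  have k1 : 𝐂[x] ⊓ Op q M = JJ p x ⊓ Op q M := le_antisymm (inf_le_inf_right _ h.cent1_le_J)
    (le_inf ((inf_comm _ _).le.trans (h.inf_J_le hqp (Op_isPGroup q M)
      ((Op_normal q M).2 h1.x_mem))) inf_le_right)
  rw [← inf_relIndex_right, k1, inf_relIndex_right,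
    ← relIndex_sup_eq (.inr ((h1.isM hqp).ge.trans (Op_normal q M).2))]
  exact relIndex_dvd_index_of_le le_sup_right

theorem exists_U (q : piU p x) : ∃ U : Subgroup G, IsPGroup q U ∧ (∀ E, Mem q x E → E ≤ U) ∧
    𝐂[x].relIndex U ∣ (JJ p x).index := by
  obtain ⟨hq, -, hqp, Q, k1, k2⟩ := mem_piU.1 q.2
  haveI := Fact.mk hq
  by_cases e : Q = ⊥
  · exact ⟨⊥, IsPGroup.of_bot, e ▸ k2, by simp⟩
  obtain ⟨M, k3⟩ := h.exists_asc ⟨k1, fun E hE hle => le_antisymm (k2 E hE) hle, e⟩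
  exact ⟨_, Op_isPGroup q M, fun E hE => (k2 E hE).trans (h.le_Op_asc hqp k3),
    h.relIndex_dvd hqp k3⟩

theorem comm_mem_cs [Fact q.Prime] (hqp : q ≠ p) (hx : x ∈ L) (hU : th q x L ≤ U)
    (ha : a ∈ Op q L) : ⁅a, x⁆ ∈ cs x U := by
  rw [← h.decomp hqp (Op_isPGroup q L) ((Op_normal q L).2 hx)] at ha
  obtain ⟨b, hb, c, hc, rfl⟩ := (mem_sup_norm_left
    (inf_le_left.trans (le_norm_commutator_left _ _))).1 ha
  exact ⟨b, hU hb, (comm_eq_iff.2 (by simpa using hc.2)).symm⟩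

theorem count : ∃ (U : piU p x → Subgroup G) (f : {ω // Om p x ω} → ∀ q, cs x (U q)) (m : ℕ),
    (∀ (q : piU p x) E, Mem q x E → E ≤ U q) ∧ Function.Injective f ∧
    (∀ ω q r, Commute (f ω q : G) (f ω r)) ∧ Nat.card (∀ q, cs x (U q)) ≤ m ∧
    m ∣ (JJ p x).index ∧ ∀ r : ℕ, r.Prime → r ∣ m → r ∈ piU p x := by
  choose U u1 u2 u3 using h.exists_U
  choose a L a1 a2 a3 a4 a5 a6 using fun ω : {ω // Om p x ω} => ω.2
  have pw : ∀ q : piU p x, ∃ k, 𝐂[x].relIndex (U q) = q ^ k := fun q => by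
    haveI := Fact.mk (mem_piU.1 q.2).1
    exact (u1 q).index _
  refine ⟨U, fun ω q => ⟨constt {q.1} ⁅a ω, x⁆, ?_⟩, ∏ q, 𝐂[x].relIndex (U q), u2,
    fun ω ω' e => ?_, fun ω q r => commute_constt_constt _ _ _, ?_, ?_, fun r hr hd => ?_⟩
  · obtain ⟨hq, -, hqp, -⟩ := mem_piU.1 q.2
    haveI := Fact.mk hq
    rw [constt_comm (a3 ω) (a2 ω)]
    exact h.comm_mem_cs hqp (a2 ω) (u2 q _ (h.mem_th hqp (a2 ω))) (constt_mem_Op (a3 ω))
  · have k1 : ∀ q : ℕ, q.Prime → q ∉ piU p x → ∀ ω, constt {q} ⁅a ω, x⁆ = 1 := fun q hq hn ω => by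
      haveI := Fact.mk hq
      rw [constt_comm (a3 ω) (a2 ω)]
      by_cases e1 : q = p
      · rw [e1, constt_eq_one (a4 ω), commutatorElement_one_left]
      by_cases e2 : q ∣ Nat.card G
      · exact mem_bot.1 (a5 ω q hq e1 (fun k => hn (mem_piU.2 ⟨hq, e2, e1, k⟩)) ▸
          commutator_mem_commutator (constt_mem_Op (a3 ω)) (mem_zpowers x))
      · rw [constt_eq_one ((isPiNum_compl_singleton hq).2 fun k =>
          e2 (k.trans (orderOf_dvd_natCard _))), commutatorElement_one_left]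
    refine Subtype.ext (by
      rw [← a6 ω, ← a6 ω']
      refine QuotientGroup.eq.2 (h.cent1_le_J (comm_eq_iff.1 (eq_of_constt fun q hq => ?_)))
      by_cases hn : q ∈ piU p x
      · exact congrArg Subtype.val (congrFun e ⟨q, hn⟩)
      · rw [k1 q hq hn, k1 q hq hn])
  · rw [Nat.card_pi]
    exact Finset.prod_le_prod' fun q _ => card_cs_le x (U q)
  · refine Finset.prod_dvd_of_isRelPrime (fun q _ r _ hne => Nat.coprime_iff_isRelPrime.1 ?_)
      fun q _ => u3 q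
    obtain ⟨k, hk⟩ := pw q
    obtain ⟨j, hj⟩ := pw r
    simp only [hk, hj]
    exact Nat.coprime_pow_primes k j (mem_piU.1 q.2).1 (mem_piU.1 r.2).1 fun e => hne (Subtype.ext e)
  · obtain ⟨q, -, hq⟩ := (hr.prime.dvd_finsetProd_iff _).1 hd
    obtain ⟨k, hk⟩ := pw q
    rw [hk] at hq
    exact (Nat.prime_dvd_prime_iff_eq hr (mem_piU.1 q.2).1).1 (hr.dvd_of_dvd_pow hq) ▸ q.2

theorem om_or (y : G) : Om p x (QuotientGroup.mk y) ∨
    ∃ q Q M, q.Prime ∧ q ≠ p ∧ ¬ Uq q x ∧ Asc q x Q M ∧ y ∈ M := by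
  by_cases hc : ∀ q : ℕ, q.Prime → q ≠ p → ¬ Uq q x → th q x (closure {x, y}) = ⊥
  · obtain ⟨a, a1, a2, a3⟩ := h.exists_decomp (h.h2 y) (left_mem_pair x y) (right_mem_pair x y)
    exact .inl ⟨a, _, h.h2 y, left_mem_pair x y, a1, a2, hc, QuotientGroup.eq.2 a3⟩
  push Not at hc
  obtain ⟨q, hq, hqp, hu, hne⟩ := hc
  haveI := Fact.mk hq
  obtain ⟨Q, k1, k2⟩ := (h.mem_th hqp (left_mem_pair x y)).exists_max hne
  obtain ⟨M, k3⟩ := h.exists_asc k1
  exact .inr ⟨q, Q, M, hq, hqp, hu, k3, h.le_of_inf_ne hqp (h.not_dvd hqp hu) k3 (h.h2 y)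
    (left_mem_pair x y) (ne_bot_of_le_ne_bot hne (le_inf (th_le (left_mem_pair x y)) k2))
    (right_mem_pair x y)⟩

theorem exists_not_uq : ∃ r : ℕ, r.Prime ∧ r ≠ p ∧ ¬ Uq r x := by
  by_contra! hu
  obtain ⟨U, f, m, k1, k2, k3, k4, k5, -⟩ := h.count
  have all : ∀ ω, Om p x ω := fun ω => by
    obtain ⟨y, rfl⟩ := QuotientGroup.mk_surjective ω
    exact (h.om_or y).resolve_right fun ⟨q, _, _, h1, h2, h3, _⟩ => h3 (hu q h1 h2)
  have hs := (k2.bijective_of_nat_card_le (k4.trans ((Nat.le_of_dvd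
    (Nat.pos_of_ne_zero index_ne_zero_of_finite) k5).trans
    (Nat.card_congr (Equiv.subtypeUnivEquiv all)).ge))).2
  obtain ⟨M, hM⟩ := h.exists_isM
  obtain ⟨M', ⟨r, R, hr, hrp, m2⟩, hne⟩ := h.exists_ne hM
  obtain ⟨q, Q, hq, hqp, m1⟩ := hM
  haveI := Fact.mk hq
  haveI := Fact.mk hr
  by_cases e : r = q
  · subst e
    exact hne (h.asc_eq hrp ((hu r hr hrp).eq m2.max m1.max ▸ m2) m1)
  have mem : ∀ (s : ℕ) [Fact s.Prime] (S : Subgroup G), s ≠ p → MaxM s x S → s ∈ piU p x :=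
    fun s hs S s1 s2 => mem_piU.2 ⟨hs.out, (dvd_card_of_isPGroup s2.mem.pg s2.ne).trans
      (card_subgroup_dvd_card S), s1, hu s hs.out s1⟩
  have hc : ∀ a ∈ Q, ∀ b ∈ R, Commute ⁅a, x⁆ ⁅b, x⁆ := fun a ha b hb => by
    classical
    obtain ⟨ω, hω⟩ := hs (Function.update (Function.update
      (fun q => ⟨1, 1, one_mem _, by simp⟩) ⟨q, mem q Q hqp m1.max⟩
      ⟨_, a, k1 _ _ m1.max.mem ha, rfl⟩) ⟨r, mem r R hrp m2.max⟩ ⟨_, b, k1 _ _ m2.max.mem hb, rfl⟩)
    have := k3 ω ⟨q, mem q Q hqp m1.max⟩ ⟨r, mem r R hrp m2.max⟩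
    rwa [hω, Function.update_self, Function.update_of_ne (fun k => e (congrArg Subtype.val k).symm),
      Function.update_self] at this
  have k6 : R ≤ 𝐂(Q) := m2.max.mem.comm.ge.trans (comm_le_of_gen m2.max.mem.norm fun b hb =>
    le_cent1_iff.1 (m1.max.mem.comm.ge.trans (comm_le_of_gen m1.max.mem.norm fun a ha =>
      mem_cent1.2 (hc a ha b hb))))
  exact hne (h.asc_eq hrp m2 ⟨m2.max, m1.co, m1.x_mem,
    (le_norm_of_le_cent k6).trans (h.normQ_le hqp m1)⟩)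

theorem le_index (hM : IsM p x M) : p + 1 ≤ M.index := by
  have k1 := h.pg_X.card_modEq_card_fixedPoints (G ⧸ M)
  have k2 : MulAction.fixedPoints (zpowers x) (G ⧸ M) = {QuotientGroup.mk 1} := by
    ext ω
    obtain ⟨g, rfl⟩ := QuotientGroup.mk_surjective ω
    rw [Set.mem_singleton_iff, QuotientGroup.eq, mul_one, MulAction.mem_fixedPoints]
    refine ⟨fun k => h.fixM hM ?_, fun k a => QuotientGroup.eq.2 ?_⟩
    · have := M.inv_mem (QuotientGroup.eq.1 (k ⟨x, mem_zpowers x⟩))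
      simpa [mul_assoc, Subgroup.smul_def] using this
    · exact M.mul_mem (M.inv_mem (M.mul_mem (zpowers_le.2 hM.x_mem a.2) (M.inv_mem_iff.1 k)))
        (M.inv_mem_iff.1 k)
  rw [k2, Nat.card_coe_set_eq, Set.ncard_singleton, ← index_eq_card] at k1
  have k3 : M.index ≠ 1 := fun e => hM.co.1 (index_eq_one.1 e)
  have k4 : M.index ≠ 0 := index_ne_zero_of_finite
  have := Nat.le_of_dvd (by omega) ((Nat.modEq_iff_dvd' (by omega)).1 k1.symm)
  omega

theorem count2 (N : Finset (Subgroup G)) (hN : ∀ M ∈ N, IsM p x M) (hc : N.card ≤ p - 1)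
    (hcov : ∀ q Q M, q.Prime → q ≠ p → ¬ Uq q x → Asc q x Q M → M ∈ N) : False := by
  classical
  obtain ⟨r, hr, hrp, hu⟩ := h.exists_not_uq
  haveI := Fact.mk hr
  obtain ⟨Q, q1⟩ : ∃ Q, MaxM r x Q := by
    by_contra! e
    exact hu (uq_of_forall fun Q _ k => absurd k (e Q))
  obtain ⟨M, q2⟩ := h.exists_asc q1
  have hd := h.not_dvd hrp hu
  obtain ⟨U, f, m, -, k2, -, k4, k5, k6⟩ := h.count
  have k7 : ♯Q ∣ (JJ p x).index := by
    have := h.relIndex_dvd hrp q2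
    rwa [h.Op_eq hrp hd q2, ← inf_relIndex_left, inf_cent1_eq_bot hd q1.mem.pg,
      relIndex_bot_left] at this
  have k8 : p + 1 ≤ ♯Q := by
    have k := card_modEq_card_inf_centralizer h.pg_X (zpowers_le.2 q1.mem.norm)
    rw [cent_zpowers, inf_cent1_eq_bot hd q1.mem.pg, card_bot] at k
    have := one_lt_card q1.ne
    have := Nat.le_of_dvd (by omega) ((Nat.modEq_iff_dvd' (by omega)).1 k.symm)
    omega
  have k9 : m * ♯Q ≤ (JJ p x).index := Nat.le_of_dvd (Nat.pos_of_ne_zero index_ne_zero_of_finite)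
    (Nat.Coprime.mul_dvd_of_dvd_of_dvd (by
      obtain ⟨k, hk⟩ := IsPGroup.iff_card.1 q1.mem.pg
      rw [hk]
      exact ((Nat.Prime.coprime_iff_not_dvd hr).2 fun e =>
        hu (mem_piU.1 (k6 r hr e)).2.2.2).symm.pow_right k) k5 k7)
  haveI := Fintype.ofFinite G
  have c1 : (Finset.univ.filter fun y : G => Om p x (QuotientGroup.mk y)).card ≤ m * ♯(JJ p x) := by
    rw [← Fintype.card_subtype, ← Nat.card_eq_fintype_card]
    refine le_trans ?_ (Nat.mul_le_mul_right _ ((Nat.card_le_card_of_injective f k2).trans k4))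
    rw [← Nat.card_prod]
    refine Nat.card_le_card_of_injective (fun y => (⟨_, y.2⟩,
      ⟨(QuotientGroup.mk y.1 : G ⧸ JJ p x).out⁻¹ * y, QuotientGroup.eq.1 (Quotient.out_eq' _)⟩))
      fun y y' e => Subtype.ext ?_
    simp only [Prod.mk.injEq, Subtype.mk.injEq] at e
    have := e.2
    rwa [e.1, mul_right_inj] at this
  have c2 : (N.biUnion fun M => Finset.univ.filter (· ∈ M)).card ≤ N.card * (Nat.card G / (p + 1)) :=
    Finset.card_biUnion_le_card_mul _ _ _ fun M hM => by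
      rw [← Fintype.card_subtype, ← Nat.card_eq_fintype_card, Nat.le_div_iff_mul_le (by omega),
        ← M.card_mul_index]
      exact Nat.mul_le_mul_left _ (h.le_index (hN M hM))
  have c3 : Nat.card G ≤ m * ♯(JJ p x) + N.card * (Nat.card G / (p + 1)) := by
    refine le_trans ?_ ((Finset.card_union_le _ _).trans (add_le_add c1 c2))
    rw [Nat.card_eq_fintype_card]
    refine Finset.card_le_card fun y _ => ?_
    rcases h.om_or y with k | ⟨q, Q, M, a1, a2, a3, a4, a5⟩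
    · exact Finset.mem_union_left _ (by simpa using k)
    · exact Finset.mem_union_right _ (Finset.mem_biUnion.2 ⟨M, hcov q Q M a1 a2 a3 a4, by simpa⟩)
  have c4 : m * ♯(JJ p x) ≤ Nat.card G / (p + 1) := by
    rw [Nat.le_div_iff_mul_le (by omega), ← (JJ p x).index_mul_card, mul_right_comm]
    exact Nat.mul_le_mul_right _ ((Nat.mul_le_mul_left _ k8).trans k9)
  have c5 := Nat.div_mul_le_self (Nat.card G) (p + 1)
  have c6 := Nat.mul_le_mul_right (Nat.card G / (p + 1)) hc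
  have c7 : 0 < Nat.card G := Nat.card_pos
  obtain ⟨k, rfl⟩ := Nat.exists_eq_add_one_of_ne_zero hp.out.ne_zero
  rw [Nat.add_sub_cancel] at c6
  generalize Nat.card G / (k + 1 + 1) = t at *
  nlinarith

end Cex

end Cfsg.Agent.F2
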