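import Cfsg.Agent.Lib.GW.Basic
import Cfsg.Agent.Lib.Flav.FixC
import Cfsg.Agent.Lib.Core.Zipper
import Cfsg.Agent.Lib.R1.ZStar

/-!
# Membership in the second Fitting subgroup: the minimal counterexample
-/

set_option autoImplicit false

namespace Cfsg.Agent.F2

open Subgroup Cfsg.Agent.OO Cfsg.Agent.Coprime
open scoped Pointwise

universe u

/-- the subgroup generated by the conjugates of `x` that lie in `H` -/
def WW {G : Type u} [Group G] (x : G) (H : Subgroup G) : Subgroup G :=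
  closure {d | d ∈ H ∧ ∃ g, d = g * x * g⁻¹}

/-- a minimal counterexample with trivial Fitting subgroup -/
structure Cex {G : Type u} [Group G] (p : ℕ) (x : G) : Prop where
  ord : orderOf x = p
  core : ∀ K H : Subgroup G, K.Normal → K ≤ H → x ∈ H → H ≠ ⊤ → K = ⊥
  fit : Fit (⊤ : Subgroup G) = ⊥
  h1 : ∀ H : Subgroup G, H ≠ ⊤ → ∀ w ∈ WW x H, ∃ k : ℕ, w ^ p ^ k ∈ Fit H
  h2 : ∀ y : G, closure ({x, y} : Set G) ≠ ⊤

/-- there is no such counterexample -/
def NoCex : Prop :=
  ∀ (G : Type u) [Group G] [Finite G] (p : ℕ) [Fact p.Prime] (x : G), ¬ Cex p x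

end Cfsg.Agent.F2
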