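import Cfsg.Agent.Lib.F2.Basic

/-!
# A unique maximal member when `O_q(C(x)) ≠ 1`
-/

set_option autoImplicit false

namespace Cfsg.Agent.F2

open Subgroup Cfsg.Agent.OO Cfsg.Agent.Coprime
open scoped Pointwise commutatorElement

universe u

variable {G : Type u} [Group G] {p q r : ℕ} {x y g b c n w u : G} {A B E H K Q S T U X : Subgroup G}

/-- there is a largest member -/
def Uq (q : ℕ) (x : G) : Prop := ∃ Q, Mem q x Q ∧ ∀ E, Mem q x E → E ≤ Q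

/-- `U` and `T` lie in a common invariant `q`-group -/
def Gd (q : ℕ) (x : G) (T U : Subgroup G) : Prop :=
  ∃ S : Subgroup G, IsPGroup q S ∧ x ∈ 𝐍(S) ∧ T ≤ S ∧ U ≤ S

theorem mem_norm_conj (hx : x ∈ 𝐍(S)) (hc : c ∈ 𝐂[x]) : x ∈ 𝐍(c •ᶜ S) := by
  rw [norm_conj, ← mem_cent1_iff_conj.1 hc]
  exact conj_mem_conj hx

theorem mem_norm_of_le_cent1 (h : S ≤ 𝐂[x]) : x ∈ 𝐍(S) := cent_le_norm S (le_cent1_iff.1 h)

theorem mem_norm_norm (hx : x ∈ 𝐍(S)) : x ∈ 𝐍(𝐍(S)) := le_normalizer hx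

variable [Finite G]

namespace Cex

variable [hp : Fact p.Prime] (h : Cex p x) [hq : Fact q.Prime] (hqp : q ≠ p)
include h hqp

theorem gd_of_inf (hT : 𝐂[x] ≤ 𝐍(T)) (I : Subgroup G) : ∀ U S : Subgroup G, U ⊓ S = I → I ≠ ⊥ →
    IsPGroup q U → x ∈ 𝐍(U) → IsPGroup q S → x ∈ 𝐍(S) → T ≤ S → Gd q x T U := by
  induction I using WellFoundedGT.induction with | _ I ih => ?_
  intro U S e hI hU hxU hS hxS hTS
  by_cases h1 : U ≤ S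
  · exact ⟨S, hS, hxS, hTS, h1⟩
  by_cases h2 : S ≤ U
  · exact ⟨U, hU, hxU, hTS.trans h2, le_rfl⟩
  have hIU : I < U ⊓ 𝐍(I) := lt_inf_norm_of_nil (nil_of_isPGroup hU) (e ▸ inf_lt_left.2 h1)
  have hIS : I < S ⊓ 𝐍(I) := lt_inf_norm_of_nil (nil_of_isPGroup hS) (e ▸ inf_lt_right.2 h2)
  have hH : 𝐍(I) ≠ ⊤ := h.norm_ne_top' (hU.to_le (e ▸ inf_le_left)) hI
  have hxH : x ∈ 𝐍(I) := e ▸ mem_norm_inf hxU hxS
  have hU1 : IsPGroup q ↥(U ⊓ 𝐍(I)) := hU.to_le inf_le_left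
  have hS1 : IsPGroup q ↥(S ⊓ 𝐍(I)) := hS.to_le inf_le_left
  have hxU1 : x ∈ 𝐍(U ⊓ 𝐍(I)) := mem_norm_inf hxU (le_normalizer hxH)
  have hxS1 : x ∈ 𝐍(S ⊓ 𝐍(I)) := mem_norm_inf hxS (le_normalizer hxH)
  obtain ⟨R, hR, hSR⟩ := exists_syl_ge (M := 𝐍(I) ⊓ 𝐂[x]) (inf_le_inf_right _ inf_le_right)
    (hS1.to_le (inf_le_left (b := 𝐂[x])))
  have hRW : R ≤ 𝐍(Op q 𝐍(I)) := (hR.le.trans inf_le_left).trans (Op_normal q _).2
  have k1 : S ⊓ 𝐍(I) ≤ Op q 𝐍(I) ⊔ R := h.le_of_decomp hqp hS1 hxS1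
    ((h.comm_le_Op hqp hH hxH inf_le_right hS1 hxS1).trans le_sup_left) (hSR.trans le_sup_right)
  have k2 : I < (Op q 𝐍(I) ⊔ R) ⊓ S := hIS.trans_le (le_inf k1 inf_le_left)
  obtain ⟨S', s1, s2, s3, s4⟩ := ih _ k2 _ S rfl (ne_bot_of_gt k2)
    (isPGroup_sup (Op_isPGroup q _) hR.isPGroup (.inr hRW))
    (mem_norm_sup ((Op_normal q _).2 hxH) (mem_norm_of_le_cent1 (hR.le.trans inf_le_right)))
    hS hxS hTS
  obtain ⟨c, hc, k3⟩ := hR.exists_le_conj' (Q := U ⊓ 𝐍(I) ⊓ 𝐂[x])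
    (inf_le_inf_right _ inf_le_right) (hU1.to_le inf_le_left)
  have k4 : U ⊓ 𝐍(I) ≤ c •ᶜ S' := h.le_of_decomp hqp hU1 hxU1
    ((h.comm_le_Op hqp hH hxH inf_le_right hU1 hxU1).trans (by
      rw [← (Op_normal q 𝐍(I)).conj_eq hc.1]; exact conj_mono c (le_sup_left.trans s4)))
    (k3.trans (conj_mono c (le_sup_right.trans s4)))
  have k5 : I < U ⊓ c •ᶜ S' := hIU.trans_le (le_inf inf_le_left k4)
  exact ih _ k5 U _ rfl (ne_bot_of_gt k5) hU hxU (isPGroup_conj.2 s1) (mem_norm_conj s2 hc.2)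
    (by rw [← conj_eq_of_mem_norm (hT hc.2)]; exact conj_mono c s3)

theorem gd_cyc (hT : 𝐂[x] ≤ 𝐍(T)) (hpg : IsPGroup q T) (hO : Op q 𝐂[x] ≤ T) (h1 : Op q 𝐂[x] ≠ ⊥)
    (hB : Cyc q x B b) : Gd q x T B := by
  obtain ⟨n, hn, hn1⟩ := exists_mem_ne_one h1
  have hnC : n ∈ 𝐂[x] := Op_le q _ hn
  obtain ⟨H, k1, k2, k3, k4⟩ := h.trick hB (cent1_le_norm x hnC)
  obtain ⟨S, s1, s2, s3, s4⟩ := h.gd_of_inf hqp hT _ (Op q H ⊔ zpowers n) T rfl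
    (fun e => hn1 (mem_bot.1 (e ▸ mem_inf.2 ⟨mem_sup_right (mem_zpowers n), hO hn⟩)))
    (isPGroup_sup (Op_isPGroup q H) ((Op_isPGroup q _).to_le (zpowers_le.2 hn))
      (.inr (zpowers_le.2 ((Op_normal q H).2 k4))))
    (mem_norm_sup ((Op_normal q H).2 k2) (mem_norm_of_le_cent1 (zpowers_le.2 hnC))) hpg
    (hT (mem_cent1_self x)) le_rfl
  exact ⟨S, s1, s2, s3, (h.mem_le_Op hqp k1 k2 hB.mem k3).trans (le_sup_left.trans s4)⟩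

theorem gd_mem (hT : 𝐂[x] ≤ 𝐍(T)) (hpg : IsPGroup q T) (hO : Op q 𝐂[x] ≤ T) (h1 : Op q 𝐂[x] ≠ ⊥)
    (hE : Mem q x E) : Gd q x T E := by
  by_cases e : E = ⊥
  · exact ⟨T, hpg, hT (mem_cent1_self x), le_rfl, e ▸ bot_le⟩
  obtain ⟨B, b, k1, k2, k3⟩ := h.exists_cyc_ne hqp hE e
  obtain ⟨S, s1, s2, s3, s4⟩ := h.gd_cyc hqp hT hpg hO h1 k1
  exact h.gd_of_inf hqp hT _ E S rfl (ne_bot_of_le_ne_bot k3 (le_inf k2 s4)) hE.pg hE.norm s1 s2 s3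

theorem uq_of_ne (h1 : Op q 𝐂[x] ≠ ⊥) : Uq q x := by
  obtain ⟨Q, -, ⟨hQ, hCQ⟩, hmax⟩ := Core.exists_maximal_ge
    (P := fun Q => Mem q x Q ∧ 𝐂[x] ≤ 𝐍(Q)) (H := ⊥) ⟨mem_bot' q x, by rw [norm_bot]; exact le_top⟩
  set O := Op q 𝐂[x] with hO
  have hOC : O ≤ 𝐂[x] := Op_le q _
  have hT : 𝐂[x] ≤ 𝐍(Q ⊔ O) := le_norm_sup hCQ (Op_normal q _).2
  have hpg : IsPGroup q ↥(Q ⊔ O) := isPGroup_sup hQ.pg (Op_isPGroup q _) (.inr (hOC.trans hCQ))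
  have hxT : x ∈ 𝐍(Q ⊔ O) := hT (mem_cent1_self x)
  have hN : 𝐍(Q ⊔ O) ≠ ⊤ := h.norm_ne_top' hpg (ne_bot_of_le_ne_bot h1 le_sup_right)
  have hth : th q x 𝐍(Q ⊔ O) = Q := hmax _ ⟨h.mem_th hqp hxT, fun c hc =>
    mem_norm_th (le_normalizer (hT hc)) (cent1_le_norm x hc)⟩
    (h.le_th hqp hN hxT hQ (le_sup_left.trans le_normalizer))
  refine ⟨Q, hQ, fun E hE => ?_⟩
  obtain ⟨S, s1, s2, s3, s4⟩ := h.gd_mem hqp hT hpg le_sup_right h1 hE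
  have hn1 : S ⊓ 𝐂[x] ≤ 𝐍(Q) := inf_le_right.trans hCQ
  have hT1 : Q ⊔ S ⊓ 𝐂[x] ≤ S := sup_le (le_sup_left.trans s3) inf_le_left
  have hx1 : x ∈ 𝐍(Q ⊔ S ⊓ 𝐂[x]) := mem_norm_sup hQ.norm (mem_norm_of_le_cent1 inf_le_right)
  rcases hT1.lt_or_eq with hlt | e
  swap
  · refine hE.comm.ge.trans ((commutator_mono (s4.trans e.ge) le_rfl).trans ?_)
    rw [commutator_sup_cent_left (cent_zpowers x ▸ inf_le_right) hn1, hQ.comm]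
  exfalso
  obtain ⟨u, hu, hu'⟩ := SetLike.exists_of_lt (lt_inf_norm_of_nil (nil_of_isPGroup s1) hlt)
  obtain ⟨B, b, c, k1, k2, k3, rfl⟩ := h.exists_cyc hqp (s1.to_le inf_le_left)
    (mem_norm_inf s2 (le_normalizer hx1)) hu
  replace k2 := k2.trans (commutator_le_left' (zpowers_le.2 (mem_norm_inf s2 (le_normalizer hx1))))
  have hY : Q ⊔ O ⊔ B ≤ S := sup_le s3 (k2.trans inf_le_left)
  have k4 : (Q ⊔ O ⊔ B) ⊓ 𝐂[x] ≤ O := baer inf_le_right fun d hd => by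
    obtain ⟨E', e1, e2, e3⟩ := h.trick2 hqp k1 (cent1_le_norm x hd)
    obtain ⟨S', t1, -, t3, t4⟩ := h.gd_mem hqp hT hpg le_sup_right h1 e1
    refine t1.to_le (sup_le (inf_le_left.trans (sup_le t3 (e2.trans t4)))
      ((conj_mono d inf_le_left).trans ?_))
    rw [conj_sup, conj_eq_of_mem_norm (hT hd)]
    exact sup_le t3 (e3.trans t4)
  have k5 : (Q ⊔ S ⊓ 𝐂[x]) ⊓ (Q ⊔ O ⊔ B) = Q ⊔ O := by
    rw [sup_inf_of_le_left (.inr hn1) (le_sup_left.trans le_sup_left)]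
    refine le_antisymm (sup_le_sup_left (le_trans ?_ k4) _) (sup_le_sup_left
      (le_inf (le_inf (le_sup_right.trans s3) hOC) (le_sup_right.trans le_sup_left)) _)
    exact le_inf inf_le_right (inf_le_left.trans inf_le_right)
  have k6 : B ≤ 𝐍(Q ⊔ O) := by
    rw [← k5]
    exact le_norm_inf (k2.trans inf_le_right) (le_sup_right.trans le_normalizer)
  have k7 : B ≤ Q := hth ▸ h.le_th hqp hN hxT k1.mem k6
  exact hu' (mul_mem (mem_sup_left (k7 k1.b_mem)) (mem_sup_right (mem_inf.2 ⟨k3.1.1, k3.2⟩)))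

end Cex

end Cfsg.Agent.F2
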