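import Cfsg.Agent.Lib.F2.DichA

/-!
# Maximal members: trivial intersection, and uniqueness when `q` divides `|C(x)|`
-/

set_option autoImplicit false

namespace Cfsg.Agent.F2

open Subgroup Cfsg.Agent.OO Cfsg.Agent.Coprime
open scoped Pointwise commutatorElement

universe u

variable {G : Type u} [Group G] {p q r : ℕ} {x y g b c n w u : G}
  {A B E H K Q Q' S T U X : Subgroup G}

/-- a nontrivial maximal member -/
structure MaxM (q : ℕ) (x : G) (Q : Subgroup G) : Prop where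
  mem : Mem q x Q
  max : ∀ E, Mem q x E → Q ≤ E → E = Q
  ne : Q ≠ ⊥

/-- `x` has no fixed points on members -/
def Fpf (q : ℕ) (x : G) : Prop := ∀ E, Mem q x E → E ⊓ 𝐂[x] = ⊥

theorem MaxM.conj (h : MaxM q x Q) (g : G) : MaxM q (g * x * g⁻¹) (g •ᶜ Q) :=
  ⟨h.mem.conj g, fun E hE hle => by
    have h1 := hE.conj g⁻¹
    rw [show g⁻¹ * (g * x * g⁻¹) * g⁻¹⁻¹ = x by group] at h1
    rw [← h.max _ h1 (conj_le_iff_le_inv_conj.1 hle), conj_conj, mul_inv_cancel, map_one, one_smul],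
    conj_eq_bot_iff.not.2 h.ne⟩

theorem MaxM.of_eq (h : MaxM q x Q) (e : zpowers y = zpowers x) : MaxM q y Q :=
  ⟨h.mem.of_eq e, fun E hE => h.max E (hE.of_eq e.symm), h.ne⟩

theorem MaxM.conj_norm (h : MaxM q x Q) (hn : n ∈ 𝐍(zpowers x)) : MaxM q x (n •ᶜ Q) :=
  (h.conj n).of_eq (by rw [← conj_zpowers, conj_eq_of_mem_norm hn])

theorem Uq.le (h : Uq q x) (hQ : MaxM q x Q) (hE : Mem q x E) : E ≤ Q := by
  obtain ⟨Q0, h1, h2⟩ := h
  exact hQ.max Q0 h1 (h2 Q hQ.mem) ▸ h2 E hE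

theorem Uq.eq (h : Uq q x) (hQ : MaxM q x Q) (hQ' : MaxM q x Q') : Q = Q' :=
  le_antisymm (h.le hQ' hQ.mem) (h.le hQ hQ'.mem)

theorem Uq.conj (h : Uq q x) (g : G) : Uq q (g * x * g⁻¹) := by
  obtain ⟨Q0, h1, h2⟩ := h
  refine ⟨_, h1.conj g, fun E hE => ?_⟩
  have h3 := hE.conj g⁻¹
  rw [show g⁻¹ * (g * x * g⁻¹) * g⁻¹⁻¹ = x by group] at h3
  exact le_conj_iff_inv_conj_le.2 (h2 _ h3)

variable [Finite G]

theorem Mem.exists_max (hE : Mem q x E) (h1 : E ≠ ⊥) : ∃ Q, MaxM q x Q ∧ E ≤ Q := by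
  obtain ⟨Q, h2, h3, h4⟩ := Core.exists_maximal_ge (P := Mem q x) hE
  exact ⟨Q, ⟨h3, h4, ne_bot_of_le_ne_bot h1 h2⟩, h2⟩

theorem uq_of_forall (h : ∀ Q Q', MaxM q x Q → MaxM q x Q' → Q = Q') : Uq q x := by
  obtain ⟨Q, -, h3, h4⟩ := Core.exists_maximal_ge (P := Mem q x) (mem_bot' q x)
  refine ⟨Q, h3, fun E hE => ?_⟩
  by_cases e : E = ⊥
  · exact e ▸ bot_le
  obtain ⟨Q', k1, k2⟩ := hE.exists_max e
  by_cases e' : Q = ⊥
  · exact absurd (h4 E hE (e' ▸ bot_le)) (e' ▸ e)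
  exact h Q' Q k1 ⟨h3, h4, e'⟩ ▸ k2

namespace Cex

variable [hp : Fact p.Prime] (h : Cex p x) [hq : Fact q.Prime] (hqp : q ≠ p)
include h hqp

theorem fpf_of_odd (hp2 : p ≠ 2) (hO : Op q 𝐂[x] = ⊥) : Fpf q x := fun E hE => by
  have h1 := Flav.fixed_le hp.out hp2 _ G E x rfl (h.ord ▸ pow_orderOf_eq_one x)
    (sol_of_isPGroup hE.pg) (h.cop hqp hE.pg).symm (zpowers_le.2 hE.norm)
  rw [hE.comm, cent_zpowers] at h1
  refine eq_bot_iff.2 (h1.trans (iSup_le fun a => ?_))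
  obtain ⟨B, b, c, k1, -, k3, e⟩ := h.exists_cyc hqp hE.pg hE.norm (E.inv_mem a.2)
  have k4 : Flav.cm (zpowers x) a ≤ B := Flav.cm_le fun y hy => by
    have e' : c * y * c⁻¹ = y := mem_cent1_iff_conj.1 (cent1_le_of_mem_zpowers hy k3.2)
    have : ⁅b * c, y⁆ = ⁅b, y⁆ := by
      rw [commutatorElement_def, commutatorElement_def]
      calc b * c * y * (b * c)⁻¹ * y⁻¹ = b * (c * y * c⁻¹) * b⁻¹ * y⁻¹ := by group
        _ = _ := by rw [e']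
    rw [e, this]
    exact k1.mem.comm ▸ commutator_mem_commutator k1.b_mem hy
  rw [cent_zpowers, ← hO]
  refine (inf_le_inf_right _ k4).trans (baer inf_le_right fun d hd => ?_)
  obtain ⟨E', e1, e2, e3⟩ := h.trick2 hqp k1 (cent1_le_norm x hd)
  exact e1.pg.to_le (sup_le (inf_le_left.trans e2) ((conj_mono d inf_le_left).trans e3))

theorem mem_of_fpf (hU : IsPGroup q U) (hx : x ∈ 𝐍(U)) (h1 : U ⊓ 𝐂[x] = ⊥) : Mem q x U :=
  ⟨hU, hx, by simpa [h1] using h.decomp hqp hU hx⟩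

theorem mem_of_le (hf : Fpf q x) (hE : Mem q x E) (hU : U ≤ E) (hx : x ∈ 𝐍(U)) : Mem q x U :=
  h.mem_of_fpf hqp (hE.pg.to_le hU) hx (eq_bot_iff.2 (hf E hE ▸ inf_le_inf_right _ hU))

theorem ti_of_fpf (hf : Fpf q x) (I : Subgroup G) : ∀ Q Q' : Subgroup G, Q ⊓ Q' = I → I ≠ ⊥ →
    MaxM q x Q → MaxM q x Q' → Q = Q' := by
  induction I using WellFoundedGT.induction with | _ I ih => ?_
  intro Q Q' e hI hQ hQ'
  by_contra hne
  have hxH : x ∈ 𝐍(I) := e ▸ mem_norm_inf hQ.mem.norm hQ'.mem.norm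
  have hH : 𝐍(I) ≠ ⊤ := h.norm_ne_top' (hQ.mem.pg.to_le (e ▸ inf_le_left)) hI
  have key : ∀ R, MaxM q x R → I < R → I < R ⊓ th q x 𝐍(I) := fun R hR hlt =>
    (lt_inf_norm_of_nil (nil_of_isPGroup hR.mem.pg) hlt).trans_le (le_inf inf_le_left
      (h.le_th hqp hH hxH (h.mem_of_le hqp hf hR.mem inf_le_left
        (mem_norm_inf hR.mem.norm (le_normalizer hxH))) inf_le_right))
  have k1 := key Q hQ (e ▸ inf_lt_left.2 fun hle => hne (hQ.max _ hQ'.mem hle).symm)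
  have k2 := key Q' hQ' (e ▸ inf_lt_right.2 fun hle => hne (hQ'.max _ hQ.mem hle))
  obtain ⟨R, r1, r2⟩ := (h.mem_th hqp hxH).exists_max (ne_bot_of_gt (k1.trans_le inf_le_right))
  replace k1 := k1.trans_le (inf_le_inf_left _ r2)
  replace k2 := k2.trans_le (inf_le_inf_left _ r2)
  exact hne ((ih _ k1 Q R rfl (ne_bot_of_gt k1) hQ r1).trans
    (ih _ k2 Q' R rfl (ne_bot_of_gt k2) hQ' r1).symm)

omit hp h hqp in
theorem uq_of_two (h : Cex 2 x) (hqp : q ≠ 2) (hO : Op q 𝐂[x] = ⊥) : Uq q x := by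
  have x2 : x * x = 1 := by rw [← pow_two, ← h.ord, pow_orderOf_eq_one]
  obtain ⟨g, e1, e2⟩ : ∃ g : G, x * (g * x * g⁻¹) = g * x * g⁻¹ * x ∧ g * x * g⁻¹ ≠ x := by
    by_contra! e
    have h1 : pPrimeCore 2 G = ⊥ := by
      rw [← Op'_top]
      by_contra h1
      exact Fit_ne_bot (GW.sol_of_odd (GW.odd_O ⊤)) h1
        (eq_bot_iff.2 (h.fit ▸ Fit_le_of_normal (Opi_normal _ ⊤)))
    refine h.cent1_ne_top h.ne_one (eq_top_iff.2 fun g _ => mem_cent1_iff_conj.2 ?_)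
    have := R1.zstar G x x2 e g
    rwa [h1, mem_bot, mul_inv_eq_one] at this
  set t := g * x * g⁻¹ with ht
  have h' : Cex 2 t := h.conj g
  have hO' : Op q 𝐂[t] = ⊥ := by rw [ht, cent1_conj, Op_conj, hO, conj_bot]
  have hc : Commute x t := e1
  have hP : GW.Pair (GW.S4 x t) x t := ⟨GW.t_mem_S4 _ _, GW.s_mem_S4 _ _, h.ne_one, h'.ne_one,
    e2.symm, x2, GW.conj_sq x2 g, hc, fun e => by
      have := e.trans (card_sup_dvd (.inl (le_norm_of_le_cent (by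
        rw [cent_zpowers]; exact zpowers_le.2 (mem_cent1.2 e1)))))
      rw [h.card_X, h'.card_X] at this
      exact absurd this (by decide)⟩
  have aux : ∀ {s s' : G} {U : Subgroup G}, Cex 2 s' → s ≠ 1 → Commute s s' → Op q 𝐂[s] = ⊥ →
      IsPGroup q U → s' ∈ 𝐍(U) → U ⊓ 𝐂[s] ≤ 𝐂[s * s'] := fun {s s' U} k0 k1 k2 k3 k4 k5 => by
    have k6 : s' ∈ 𝐂[s] := mem_cent1.2 k2.symm
    have k7 := k0.comm_le_Op hqp (k0.cent1_ne_top k1) k6 (inf_le_right (a := U))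
      (k4.to_le inf_le_left) (mem_norm_inf k5 (le_normalizer k6))
    rw [k3, le_bot_iff, OO.commutator_eq_bot_iff, cent_zpowers] at k7
    intro a ha
    rw [mem_cent1, ← mul_assoc, mem_cent1.1 ha.2, mul_assoc, mem_cent1.1 (k7 ha), mul_assoc]
  have hne : x * t ≠ 1 := fun e => e2 (by rw [← GW.inv_eq x2]; exact eq_inv_of_mul_eq_one_right e)
  have hxC : x ∈ 𝐂[x * t] := mem_cent1.2 ((Commute.refl x).mul_right hc)
  refine ⟨_, h.mem_th hqp hxC, fun E hE => h.le_th hqp (h.cent1_ne_top hne) hxC hE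
    (h.mem_le_of_cyc hqp hE fun B b k1 _ => ?_)⟩
  obtain ⟨H, k2, k3, k4, k5⟩ := h.trick k1 (cent1_le_norm x (mem_cent1.2 e1.symm))
  exact (h.mem_le_Op hqp k2 k3 k1.mem k4).trans (hP.le_of_forall
    ((GW.S4_le.2 ⟨k3, k5⟩).trans (Op_normal q H).2) (GW.odd_of_isPGroup hqp (Op_isPGroup q H))
    (aux h' h.ne_one hc hO (Op_isPGroup q H) ((Op_normal q H).2 k5))
    (hc.eq ▸ aux h h'.ne_one hc.symm hO' (Op_isPGroup q H) ((Op_normal q H).2 k3)) inf_le_right)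

theorem uq_or : Uq q x ∨ Fpf q x := by
  by_cases hO : Op q 𝐂[x] = ⊥
  · by_cases hp2 : p = 2
    · subst hp2
      exact .inl (uq_of_two h hqp hO)
    · exact .inr (h.fpf_of_odd hqp hp2 hO)
  · exact .inl (h.uq_of_ne hqp hO)

theorem ti (hQ : MaxM q x Q) (hQ' : MaxM q x Q') (h1 : Q ⊓ Q' ≠ ⊥) : Q = Q' :=
  (h.uq_or hqp).elim (fun hu => hu.eq hQ hQ') fun hf => h.ti_of_fpf hqp hf _ Q Q' rfl h1 hQ hQ'

theorem le_of_inf (hQ : MaxM q x Q) (hE : Mem q x E) (h1 : E ⊓ Q ≠ ⊥) : E ≤ Q := by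
  obtain ⟨R, r1, r2⟩ := hE.exists_max (ne_bot_of_le_ne_bot h1 inf_le_left)
  exact h.ti hqp r1 hQ (ne_bot_of_le_ne_bot h1 (inf_le_inf_right _ r2)) ▸ r2

theorem norm_X_le (hQ : MaxM q x Q) : 𝐍(zpowers x) ≤ 𝐍(Q) := fun n hn => by
  obtain ⟨B, b, k1, k2, k3⟩ := h.exists_cyc_ne hqp hQ.mem hQ.ne
  obtain ⟨E, e1, e2, e3⟩ := h.trick2 hqp k1 hn
  exact conj_eq_self_iff.1 (h.ti hqp (hQ.conj_norm hn) hQ (ne_bot_of_le_ne_bot
    (conj_eq_bot_iff.not.2 k3) (le_inf (conj_mono n k2)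
      (e3.trans (h.le_of_inf hqp hQ e1 (ne_bot_of_le_ne_bot k3 (le_inf e2 k2)))))))

theorem cent1_le (hQ : MaxM q x Q) : 𝐂[x] ≤ 𝐍(Q) := (cent1_le_norm x).trans (h.norm_X_le hqp hQ)

theorem not_dvd (hu : ¬ Uq q x) : ¬ q ∣ ♯𝐂[x] := fun hd => by
  have hf := (h.uq_or hqp).resolve_left hu
  obtain ⟨t, ht, e⟩ := cauchy hq.out hd
  have t1 : t ≠ 1 := fun e' => hq.out.one_lt.ne (by rw [← e, e', orderOf_one])
  have hxC : x ∈ 𝐂[t] := mem_cent1_comm.1 ht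
  have key : ∀ R, MaxM q x R → th q x 𝐂[t] ⊓ R ≠ ⊥ := fun R hR => by
    have k1 := inf_cent_ne_bot_of_isPGroup (P := zpowers t)
      (isPGroup_of_card_prime_pow (n := 1) (by rw [Nat.card_zpowers, e, pow_one])) hR.mem.pg
      (zpowers_le.2 (h.cent1_le hqp hR ht)) hR.ne
    rw [cent_zpowers] at k1
    exact ne_bot_of_le_ne_bot k1 (le_inf (h.le_th hqp (h.cent1_ne_top t1) hxC
      (h.mem_of_le hqp hf hR.mem inf_le_left (mem_norm_inf hR.mem.norm (le_normalizer hxC)))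
      inf_le_right) inf_le_left)
  exact hu (uq_of_forall fun Q Q' k1 k2 => h.ti hqp k1 k2 (ne_bot_of_le_ne_bot (key Q k1)
    (le_inf inf_le_right (inf_le_left.trans (h.le_of_inf hqp k2 (h.mem_th hqp hxC) (key Q' k2))))))

omit h hqp hp in
theorem _root_.Cfsg.Agent.F2.inf_cent1_eq_bot (hd : ¬ q ∣ ♯𝐂[x]) (hU : IsPGroup q U) :
    U ⊓ 𝐂[x] = ⊥ := by_contra fun e =>
  hd ((dvd_card_of_isPGroup (hU.to_le inf_le_left) e).trans (card_dvd inf_le_right))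

theorem mem_of_not_dvd (hd : ¬ q ∣ ♯𝐂[x]) (hU : IsPGroup q U) (hx : x ∈ 𝐍(U)) : Mem q x U :=
  h.mem_of_fpf hqp hU hx (inf_cent1_eq_bot hd hU)

end Cex

end Cfsg.Agent.F2
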