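import Cfsg.Agent.Lib.F2.Count
import Cfsg.Agent.Lib.Core.TwoF

/-!
# Primes with several maximal members
-/

set_option autoImplicit false

namespace Cfsg.Agent.F2

open Subgroup Cfsg.Agent.OO Cfsg.Agent.Coprime
open scoped Pointwise commutatorElement

universe u

variable {G : Type u} [Group G] [Finite G] {p q r : ℕ} {x y g a b c d l n w u : G}
  {A B E F H I K L M M' P Q Q' R S T U X : Subgroup G}

theorem num_exc (hp : p.Prime) (hr : r.Prime) (h1 : r ∣ p - 1) {k : ℕ} (h2 : 1 < r ^ k)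
    (h3 : r ^ k ≤ r * r) (h4 : r ^ k ≡ 1 [MOD p]) : r = 2 ∧ p = 3 ∧ r ^ k = 4 := by
  have p2 := hp.two_le
  have r2 := hr.two_le
  have k1 := Nat.le_of_dvd (by omega) h1
  have k2 : k ≤ 2 := (Nat.pow_le_pow_iff_right hr.one_lt).1 (pow_two r ▸ h3)
  have k3 := (Nat.modEq_iff_dvd' h2.le).1 h4.symm
  interval_cases k
  · simp at h2
  · rw [pow_one] at k3
    have := Nat.le_of_dvd (by omega) k3
    omega
  · rw [show r ^ 2 - 1 = (r + 1) * (r - 1) by simpa using Nat.sq_sub_sq r 1] at k3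
    rcases (Nat.Prime.dvd_mul hp).1 k3 with e | e
    · have := Nat.le_of_dvd (by omega) e
      obtain rfl : p = r + 1 := by omega
      rcases hr.eq_two_or_odd' with rfl | ho
      · simp
      · have := hp.even_iff.1 ho.add_one
        omega
    · have := Nat.le_of_dvd (by omega) e
      omega

namespace Cex

variable [hp : Fact p.Prime] (h : Cex p x)
include h

theorem cyc_of (hR : R ≤ 𝐍(zpowers x)) (hC : R ⊓ 𝐂[x] = ⊥) : IsCyclic R ∧ ♯R ∣ p - 1 := by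
  have k1 : Function.Injective (conjHom hR) := (MonoidHom.ker_eq_bot_iff _).1 (eq_bot_iff.2
    fun a ha => Subtype.ext (mem_bot.1 (hC ▸ mem_inf.2
      ⟨a.2, cent_zpowers x ▸ (mem_ker_conjHom hR a).1 ha⟩)))
  have k2 : IsCyclic (MulAut (zpowers x)) := by
    rw [(IsCyclic.mulAutMulEquiv (zpowers x)).isCyclic, h.card_X]
    exact ZMod.isCyclic_units_prime hp.out
  refine ⟨isCyclic_of_injective _ k1, (card_dvd_of_injective _ k1).trans ?_⟩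
  rw [IsCyclic.card_mulAut, h.card_X, Nat.totient_prime hp.out]

variable [hr : Fact r.Prime] (hrp : r ≠ p) (hd : ¬ r ∣ ♯𝐂[x])
include hrp hd

theorem syl_sup (h1 : Asc r x Q M) (hR : Syl r R (JJ p x)) : Syl r (Q ⊔ R) M := by
  have hJ := (h1.isM hrp).ge
  have hRM := hR.le.trans hJ
  obtain ⟨T, hT, k1⟩ := exists_syl_ge (sup_le h1.le hRM) (isPGroup_sup h1.max.mem.pg hR.isPGroup
    (.inr (h.normQ_eq hrp hd h1 ▸ hRM)))
  have hn := (Fit_normal M).2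
  have k2 : M = JJ p x ⊔ Fit M := le_antisymm (fun l hl => by
    obtain ⟨a, a1, -, a3⟩ := h.exists_decomp h1.co.1 h1.x_mem hl
    simpa using mul_mem (mem_sup_right a1) (mem_sup_left a3)) (sup_le hJ (Fit_le M))
  have k3 : M ⁒ Fit M = JJ p x ⁒ Fit M := by
    rw [← quo_sup_self (hJ.trans hn), ← k2]
  have k4 := (hR.quo (hJ.trans hn)).eq_of_le_syl (k3 ▸ hT.quo hn)
    (quo_mono _ (le_sup_right.trans k1))
  have k5 := (quo_le_quo_iff_le_sup (hT.le.trans hn) (hRM.trans hn)).1 k4.ge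
  have k6 : T ≤ Q ⊔ R := by
    rw [← inf_eq_right.2 k5, sup_inf_of_le_left (.inl (hRM.trans hn)) (le_sup_right.trans k1),
      sup_comm]
    exact sup_le_sup_right (h.Op_eq hrp hd h1 ▸
      le_Op_of_le_Fit (hT.isPGroup.to_le inf_le_right) inf_le_left) _
  exact le_antisymm k6 k1 ▸ hT

theorem norm_thompson (h1 : Asc r x Q M) : 𝐍(thompsonSubgroupOf r Q) = M :=
  le_antisymm (h.norm_le_of_le hrp hd h1 _ (Transfer.thompsonSubgroupOf_le Q)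
    (Transfer.thompsonSubgroupOf_ne_bot h1.max.mem.pg h1.max.ne)
    (Transfer.normalizer_le_normalizer_thompsonSubgroupOf Q h1.max.mem.norm))
    (h.normQ_eq hrp hd h1 ▸ Transfer.normalizer_le_normalizer_thompsonSubgroupOf Q)

theorem nonexc_eq (h1 : Asc r x Q M) (h2 : Asc r x Q' M') (hR : Syl r R (JJ p x))
    (e1 : thompsonSubgroupOf r (Q ⊔ R) ≤ Q)
    (e2 : thompsonSubgroupOf r (Q' ⊔ R) ≤ Q') : M = M' := by
  have key : ∀ {Q M : Subgroup G}, Asc r x Q M → thompsonSubgroupOf r (Q ⊔ R) ≤ Q →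
      𝐍(thompsonSubgroupOf r (Q ⊔ R)) = M ∧ Syl r (Q ⊔ R) ⊤ := fun {Q M} k e => by
    have k1 : 𝐍(thompsonSubgroupOf r (Q ⊔ R)) = M := by
      rw [← Transfer.thompsonSubgroupOf_eq_of_le e le_sup_left, h.norm_thompson hrp hd k]
    exact ⟨k1, .of_syl_norm le_top ((h.syl_sup hrp hd k hR).mono (le_inf le_top le_normalizer)
      (inf_le_right.trans (k1 ▸ Transfer.normalizer_le_normalizer_thompsonSubgroupOf _)))⟩
  obtain ⟨g, -, e⟩ := (key h1 e1).2.exists_conj' (key h2 e2).2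
  have k1 : M' = g •ᶜ M := by
    rw [← (key h2 e2).1, e, ← Transfer.conj_smul_thompsonSubgroupOf, norm_conj, (key h1 e1).1]
  rw [k1, h.eq_of_conj hrp h1 (k1 ▸ h2.x_mem)]

theorem exc (hJ : JJ p x ≤ 𝐍(zpowers x)) (h1 : Asc r x Q M) (hR : Syl r R (JJ p x))
    (e1 : ¬ thompsonSubgroupOf r (Q ⊔ R) ≤ Q) : r = 2 ∧ p = 3 ∧ ♯(Ohm r (Zc Q)) = 4 ∧
      ∃ y ∈ JJ p x, y ≠ 1 ∧ Q ⊓ 𝐂[y] ≠ ⊥ := by
  have hpg := h1.max.mem.pg
  have hRQ : R ≤ 𝐍(Q) := h.normQ_eq hrp hd h1 ▸ hR.le.trans (h1.isM hrp).ge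
  have hRC := inf_cent1_eq_bot hd hR.isPGroup
  obtain ⟨c1, c2⟩ := h.cyc_of (hR.le.trans hJ) hRC
  obtain ⟨A, hA, hAQ⟩ : ∃ A ∈ Transfer.maxElem r (Q ⊔ R), ¬ A ≤ Q := by
    by_contra! e
    exact e1 (Transfer.thompsonSubgroupOf_eq (Q ⊔ R) ▸ sSup_le e)
  set V := Ohm r (Zc Q) with hV
  have v1 : V ≤ Q := (Ohm_le r _).trans (Zc_le Q)
  have v2 : Q ≤ 𝐂(V) := (le_cent_Zc Q).trans (cent_anti (Ohm_le r _))
  have v3 : x ∈ 𝐍(V) := norm_le_norm_Ohm r _ (norm_le_norm_Zc Q h1.max.mem.norm)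
  have v4 : V ≠ ⊥ := Ohm_ne_bot (hpg.to_le (Zc_le Q)) (Zc_ne_bot (nil_of_isPGroup hpg) h1.max.ne)
  have hAN : A ≤ 𝐍(Q) := hA.1.trans (sup_le le_normalizer hRQ)
  have k1 : Q.relIndex A ≤ r := by
    obtain ⟨z, hz⟩ := exists_zpowers_eq (isCyclic_of_le' (isCyclic_quo c1 Q)
      ((quo_mono Q hA.1).trans (quo_self_sup hRQ).le))
    rw [← card_quo hAN, ← hz, Nat.card_zpowers]
    exact Nat.le_of_dvd hr.out.pos (orderOf_dvd_of_pow_eq_one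
      ((abelem_quo hA.2.1 Q).2 z (hz ▸ mem_zpowers z)))
  obtain ⟨c, hc, hcQ⟩ := SetLike.not_le_iff_exists.1 hAQ
  obtain ⟨u, hu, y, hy, rfl⟩ := (mem_sup_norm_left hRQ).1 (hA.1 hc)
  have y1 : y ≠ 1 := fun e => hcQ (by rw [e, mul_one]; exact hu)
  have k2 : 𝐂[y].relIndex V ≤ r := by
    refine le_trans ?_ ((Core.relIndex_le_of_mem_maxElem hA (v1.trans le_sup_left)
      (Ohm_abelem r (Zc_ab Q))).trans ((relIndex_le_of_le_left v2 (relIndex_pos _ _).ne').trans k1))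
    rw [← inf_relIndex_right 𝐂(A)]
    refine relIndex_le_of_le_left (fun v hv => mem_cent1.2 ?_) (relIndex_pos _ _).ne'
    have := mem_cent_iff.1 hv.1 _ hc
    rw [← mul_assoc, mem_cent_iff.1 (v2 hu) v hv.2, mul_assoc, mul_assoc, mul_right_inj] at this
    exact this.symm
  have k3 : 𝐂[x * y * x⁻¹].relIndex V ≤ r := by
    rwa [cent1_conj, ← conj_eq_of_mem_norm v3, relIndex_conj]
  have k4 : (𝐂[y] ⊓ 𝐂[x * y * x⁻¹]) ⊓ V = ⊥ := by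
    have a1 : x * y * x⁻¹ * y⁻¹ ∈ zpowers x := by
      have := mul_mem (mem_zpowers x) (conj_mem_of_norm (hJ (hR.le hy)) (inv_mem (mem_zpowers x)))
      rwa [← mul_assoc, ← mul_assoc] at this
    have a2 : x * y * x⁻¹ * y⁻¹ ≠ 1 := fun e => y1 (mem_bot.1 (hRC ▸ mem_inf.2
      ⟨hy, mem_cent1_comm.1 (mem_cent1_iff_conj.2 (mul_inv_eq_one.1 e))⟩))
    refine eq_bot_iff.2 (inf_cent1_eq_bot hd hpg ▸ le_inf (inf_le_right.trans v1) fun v hv => ?_)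
    rw [← cent_zpowers, ← eq_zpowers_of_prime (h.card_X ▸ hp.out) a1 a2, cent_zpowers,
      mem_cent1_comm]
    exact mul_mem (mem_cent1_comm.1 hv.1.2) (inv_mem (mem_cent1_comm.1 hv.1.1))
  have k5 : ♯V ≤ r * r := by
    rw [← relIndex_bot_left, ← k4, inf_relIndex_right]
    exact relIndex_inf_le.trans (Nat.mul_le_mul k2 k3)
  have k6 := card_modEq_card_inf_centralizer h.pg_X (zpowers_le.2 v3)
  rw [cent_zpowers, inf_cent1_eq_bot hd (hpg.to_le v1), card_bot] at k6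
  obtain ⟨k, hk⟩ := IsPGroup.iff_card.1 (hpg.to_le v1)
  have k7 := one_lt_card v4
  rw [hk] at k5 k6 k7 ⊢
  obtain ⟨n1, n2, n3⟩ := num_exc hp.out hr.out ((dvd_card_of_isPGroup hR.isPGroup
    fun e => y1 (mem_bot.1 (e ▸ hy))).trans c2) k7 k5 k6
  exact ⟨n1, n2, n3, y, hR.le hy, y1, cent_zpowers y ▸ inf_cent_ne_bot_of_isPGroup
    (hR.isPGroup.to_le (zpowers_le.2 hy)) hpg (zpowers_le.2 (hRQ hy)) h1.max.ne⟩

theorem eq_of_cent [Fact q.Prime] (hqp : q ≠ p) (hd' : ¬ q ∣ ♯𝐂[x]) (h1 : Asc r x Q M)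
    (h2 : Asc q x Q' M') (hy : y ∈ 𝐂[x]) (y1 : y ≠ 1) (e1 : Q ⊓ 𝐂[y] ≠ ⊥) (e2 : Q' ⊓ 𝐂[y] ≠ ⊥) :
    M = M' :=
  ((h1.co.le_iff_eq h2.co.1).1 (h.le_of_inf_ne hqp hd' h2 h1.co.1 h1.x_mem (ne_bot_of_le_ne_bot e2
    (le_inf (inf_le_right.trans (h.le_of_inf_ne hrp hd h1 (h.cent1_ne_top y1) (mem_cent1_comm.1 hy)
      (inf_comm Q _ ▸ e1))) inf_le_left)))).symm

omit hr hrp hd in
theorem linear (hf : ∀ q : ℕ, q.Prime → q ≠ p → ¬ q ∣ ♯𝐂[x]) (hy : y ∈ JJ p x)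
    (ha : a⁻¹ * y * a ∈ JJ p x) (ha' : a ∉ JJ p x) : y = 1 := by
  have l0 : ∀ L : Subgroup G, L ≠ ⊤ → x ∈ L → ¬ L ≤ JJ p x → ∃ M, IsM p x M ∧
      ∀ K : Subgroup G, K ≠ ⊤ → L ≤ K → K ≤ M := fun L k1 k2 k3 => by
    obtain ⟨q, hq, hqp, k4⟩ : ∃ q : ℕ, q.Prime ∧ q ≠ p ∧ th q x L ≠ ⊥ := by
      by_contra! e
      exact k3 (h.le_of_th k1 k2 le_rfl fun q hq hqp => e q hq hqp ▸ bot_le)
    haveI := Fact.mk hq
    obtain ⟨Q, q1, q2⟩ := (h.mem_th hqp k2).exists_max k4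
    obtain ⟨M, q3⟩ := h.exists_asc q1
    exact ⟨M, q3.isM hqp, fun K k5 k6 => h.le_of_inf_ne hqp (hf q hq hqp) q3 k5 (k6 k2)
      (ne_bot_of_le_ne_bot k4 (le_inf ((th_le k2).trans k6) q2))⟩
  have l1 : ∀ g ∉ JJ p x, ∃ M, IsM p x M ∧ g ∈ M := fun g hg => by
    obtain ⟨M, k1, k2⟩ := l0 _ (h.h2 g) (left_mem_pair x g) fun e => hg (e (right_mem_pair x g))
    exact ⟨M, k1, k2 _ (h.h2 g) le_rfl (right_mem_pair x g)⟩
  have l2 : ∀ M M', IsM p x M → IsM p x M' → M ≠ M' → M ⊓ M' ≤ JJ p x := fun M M' k1 k2 k3 => by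
    by_contra e
    obtain ⟨N, n1, n2⟩ := l0 _ (ne_top_of_le_ne_top k1.co.1 inf_le_left)
      (mem_inf.2 ⟨k1.x_mem, k2.x_mem⟩) e
    exact k3 (((k1.co.le_iff_eq n1.co.1).1 (n2 M k1.co.1 inf_le_left)).symm.trans
      ((k2.co.le_iff_eq n1.co.1).1 (n2 M' k2.co.1 inf_le_right)))
  have l3 : ∀ a M, a⁻¹ * y * a ∈ JJ p x → a ∉ JJ p x → IsM p x M → a ∈ M → ∀ g ∉ M,
      g⁻¹ * y * g ∈ JJ p x := fun a M k1 k2 k3 k4 g k5 => by
    obtain ⟨M1, m1, m2⟩ := l1 g fun e => k5 (k3.ge e)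
    obtain ⟨M2, m3, m4⟩ := l1 (a⁻¹ * g) fun e => k5 (by simpa using M.mul_mem k4 (k3.ge e))
    refine l2 M1 M2 m1 m3 (fun e => k2 (l2 M M1 k3 m1 (fun e' => k5 (e' ▸ m2)) (mem_inf.2 ⟨k4, ?_⟩)))
      (mem_inf.2 ⟨M1.mul_mem (M1.mul_mem (M1.inv_mem m2) (m1.ge hy)) m2, ?_⟩)
    · have := M1.mul_mem m2 (M1.inv_mem (show a⁻¹ * g ∈ M1 from e ▸ m4))
      rwa [show g * (a⁻¹ * g)⁻¹ = a by group] at this
    · have := M2.mul_mem (M2.mul_mem (M2.inv_mem m4) (m3.ge k1)) m4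
      rwa [show (a⁻¹ * g)⁻¹ * (a⁻¹ * y * a) * (a⁻¹ * g) = g⁻¹ * y * g by group] at this
  obtain ⟨M, m1, m2⟩ := l1 a ha'
  obtain ⟨b, -, hb⟩ := SetLike.exists_of_lt (lt_top_iff_ne_top.2 m1.co.1)
  obtain ⟨M', m3, m4⟩ := l1 b fun e => hb (m1.ge e)
  have l4 : ∀ g, g⁻¹ * y * g ∈ JJ p x := fun g => by
    by_cases e1 : g ∈ M
    · by_cases e2 : g ∈ M'
      · have := l2 M M' m1 m3 (fun e => hb (e ▸ m4)) (mem_inf.2 ⟨e1, e2⟩)
        exact mul_mem (mul_mem (inv_mem this) hy) this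
      · exact l3 b M' (l3 a M ha ha' m1 m2 b hb) (fun e => hb (m1.ge e)) m3 m4 g e2
    · exact l3 a M ha ha' m1 m2 g e1
  exact mem_bot.1 (h.core _ _ inferInstance (normalCore_le _) (x_mem_JJ p x) h.J_ne_top ▸
    (show y ∈ (JJ p x).normalCore from fun g => by simpa using l4 g⁻¹))

theorem exc_eq (hJ : JJ p x ≤ 𝐍(zpowers x)) (h1 : Asc r x Q M) (h2 : Asc r x Q' M')
    (hR : Syl r R (JJ p x)) (e1 : ¬ thompsonSubgroupOf r (Q ⊔ R) ≤ Q)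
    (e2 : ¬ thompsonSubgroupOf r (Q' ⊔ R) ≤ Q') : M = M' := by
  obtain ⟨r2, p3, k1, y, hy, y1, k2⟩ := h.exc hrp hd hJ h1 hR e1
  obtain ⟨-, -, k3, -⟩ := h.exc hrp hd hJ h2 hR e2
  by_contra hne
  obtain ⟨a, ha, a1⟩ := exists_mem_ne_one k2
  refine y1 (h.linear (a := a) (fun s hs hsp hdv => ?_) hy ?_ fun e => a1 ?_)
  · haveI := Fact.mk hs
    obtain ⟨c, hc, e⟩ := cauchy hs hdv
    have s5 : 5 ≤ s := hs.five_le_of_ne_two_of_ne_three (fun e => hd (r2 ▸ e ▸ hdv)) (p3 ▸ hsp)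
    have key : ∀ {Q M : Subgroup G}, Asc r x Q M → ♯(Ohm r (Zc Q)) = 4 → Q ⊓ 𝐂[c] ≠ ⊥ :=
      fun {Q M} k k' => by
        have c1 := card_modEq_card_inf_centralizer (P := zpowers c) (isPGroup_of_card_prime_pow
          (n := 1) (by rw [Nat.card_zpowers, e, pow_one])) (zpowers_le.2 (norm_le_norm_Ohm r _
            (norm_le_norm_Zc Q (h.cent1_le hrp k.max hc))))
        intro c2
        rw [k', cent_zpowers, eq_bot_iff.2 ((inf_le_inf_right _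
          ((Ohm_le r _).trans (Zc_le Q))).trans c2.le), card_bot] at c1
        have := Nat.le_of_dvd (by omega) ((Nat.modEq_iff_dvd' (by omega)).1 c1.symm)
        omega
    exact hne (h.eq_of_cent hrp hd hrp hd h1 h2 hc
      (fun e' => hs.one_lt.ne (by rw [← e, e', orderOf_one])) (key h1 k1) (key h2 k3))
  · rwa [mul_assoc, ← mem_cent1.1 ha.2, inv_mul_cancel_left]
  · exact mem_bot.1 (inf_cent1_eq_bot hd h1.max.mem.pg ▸ mem_inf.2 ⟨ha.1,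
      h.inf_J_le hrp h1.max.mem.pg h1.max.mem.norm (mem_inf.2 ⟨ha.1, e⟩)⟩)

end Cex

end Cfsg.Agent.F2
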