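import Cfsg.Agent.Lib.F2.Zip

/-!
# `x` fixes a unique coset of the maximal subgroup attached to a maximal member
-/

set_option autoImplicit false

namespace Cfsg.Agent.F2

open Subgroup Cfsg.Agent.OO Cfsg.Agent.Coprime
open scoped Pointwise commutatorElement

universe u

variable {G : Type u} [Group G] {p q r : ℕ} {x y g a b c d n w u : G}
  {A B E F H I K L M M' P Q Q' S T U X : Subgroup G}

theorem mem_cent1_of_inf (h : K ⊓ Q = ⊥) (hd : d ∈ 𝐍(Q)) (ha : a ∈ Q) (h1 : d ∈ K)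
    (h2 : a * d * a⁻¹ ∈ K) : a ∈ 𝐂[d] := by
  have h3 : a * d * a⁻¹ * d⁻¹ ∈ K ⊓ Q := mem_inf.2 ⟨K.mul_mem h2 (K.inv_mem h1), by
    have := Q.mul_mem ha (conj_mem_of_norm hd (Q.inv_mem ha))
    rwa [← mul_assoc, ← mul_assoc] at this⟩
  rw [h, mem_bot, mul_inv_eq_one] at h3
  exact mem_cent1_iff_conj.2 h3

variable [Finite G]

theorem pclimb [Fact p.Prime] (hx : x ∈ M) (hM : ∀ y, y * x * y⁻¹ ∈ M → y⁻¹ * x * y ∈ M → y ∈ M)
    (hP : IsPGroup p P) (hxP : x ∈ P) : P ≤ M :=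
  inf_eq_left.1 (eq_of_nil_of_inf_norm_le (nil_of_isPGroup hP) inf_le_left fun _ hy =>
    mem_inf.2 ⟨hy.1, hM _ (conj_mem_of_norm hy.2 (mem_inf.2 ⟨hxP, hx⟩)).2
      (conj_mem_of_norm' hy.2 (mem_inf.2 ⟨hxP, hx⟩)).2⟩)

theorem card_cent1_conj (g x : G) : ♯𝐂[g * x * g⁻¹] = ♯𝐂[x] := by rw [cent1_conj, card_conj]

namespace Cex

variable [hp : Fact p.Prime] (h : Cex p x) [hq : Fact q.Prime] (hqp : q ≠ p)
include h hqp

theorem fix_aux (hu : Uq q x) (h1 : Asc q x Q M) (hg : g * x * g⁻¹ ∈ M) (hx : g⁻¹ * x * g ∈ M) :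
    g ∈ M := by
  have hn : g * x * g⁻¹ ∈ 𝐍(Op q M) := (Op_normal q M).2 hg
  have k1 : Op q M ≤ g •ᶜ M := (h.conj g).le_of_decomp hqp (Op_isPGroup q M) hn
    (((hu.conj g).le (h1.max.conj g) ((h.conj g).mem_comm hqp (Op_isPGroup q M) hn)).trans
      (conj_mono g h1.le)) (inf_le_right.trans ((h.conj g).cent1_le_asc hqp (h1.conj g)))
  rw [← h.norm_eq h1.co h1.x_mem]
  exact conj_eq_self_iff.1 (h.asc_eq hqp ⟨h1.max, isCoatom_conj_iff.2 h1.co, mem_conj.2 hx,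
    (h.le_Op_asc hqp h1).trans k1⟩ h1)

theorem fix_of_uq (hu : Uq q x) (h1 : Asc q x Q M) (hg : g * x * g⁻¹ ∈ M) : g ∈ M := by
  obtain ⟨P, hP, hxP⟩ := exists_syl_ge (zpowers_le.2 h1.x_mem) h.pg_X
  obtain ⟨m, hm, k1⟩ := hP.exists_conj_le (zpowers_le.2 hg) (h.conj g).pg_X
  have k2 : m * g * x * (m * g)⁻¹ ∈ P := by
    have := k1 (conj_mem_conj (mem_zpowers _))
    rwa [show m * (g * x * g⁻¹) * m⁻¹ = m * g * x * (m * g)⁻¹ by group] at this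
  have k3 : P ≤ (m * g) •ᶜ M := pclimb (h1.conj (m * g)).x_mem
    (fun _ => (h.conj (m * g)).fix_aux hqp (hu.conj _) (h1.conj _)) hP.isPGroup k2
  exact (M.mul_mem_cancel_left hm).1
    (h.fix_aux hqp hu h1 (hP.le k2) (mem_conj.1 (k3 (hxP (mem_zpowers x)))))

theorem Op_eq (hd : ¬ q ∣ ♯𝐂[x]) (h1 : Asc q x Q M) : Op q M = Q :=
  h1.max.max _ (h.mem_of_not_dvd hqp hd (Op_isPGroup q M) ((Op_normal q M).2 h1.x_mem))
    (h.le_Op_asc hqp h1)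

theorem normQ_eq (hd : ¬ q ∣ ♯𝐂[x]) (h1 : Asc q x Q M) : 𝐍(Q) = M :=
  le_antisymm (h.normQ_le hqp h1) (h.Op_eq hqp hd h1 ▸ (Op_normal q M).2)

theorem fix_of_not_dvd (hd : ¬ q ∣ ♯𝐂[x]) (h1 : Asc q x Q M) (hg : g * x * g⁻¹ ∈ M) : g ∈ M := by
  have hN := h.normQ_eq hqp hd h1
  have hpg := h1.max.mem.pg
  have hx := h1.max.mem.norm
  have e : ∀ a : G, a * (g * x * g⁻¹) * a⁻¹ = a * g * x * (a * g)⁻¹ := fun a => by group
  have hm : ∀ a ∈ Q, a * g * x * (a * g)⁻¹ ∈ M := fun a ha =>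
    e a ▸ M.mul_mem (M.mul_mem (h1.le ha) hg) (M.inv_mem (h1.le ha))
  by_cases hc : ∃ a ∈ Q, closure ({x, a * g * x * (a * g)⁻¹} : Set G) ⊓ Q ≠ ⊥
  · obtain ⟨a, ha, k1⟩ := hc
    have hxH := left_mem_pair x (a * g)
    have hyH := right_mem_pair x (a * g)
    have k2 := h.mem_le_Op hqp (h.h2 (a * g)) hxH (h.mem_of_not_dvd hqp hd
      (hpg.to_le (inf_le_right (a := closure ({x, a * g * x * (a * g)⁻¹} : Set G))))
      (mem_norm_inf (le_normalizer (left_mem_pair _ _)) hx))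
      (inf_le_left.trans (pair_le hxH (mul_mem (mul_mem hyH hxH) (inv_mem hyH))))
    have k3 := h.le_of_inf hqp h1.max (h.mem_of_not_dvd hqp hd (Op_isPGroup q _)
      ((Op_normal q _).2 hxH)) (ne_bot_of_le_ne_bot k1 (le_inf k2 inf_le_right))
    have k4 := (h.conj (a * g)).le_of_inf hqp (h1.max.conj (a * g))
      ((h.conj (a * g)).mem_of_not_dvd hqp (card_cent1_conj _ x ▸ hd) hpg (hN ▸ hm a ha))
      (ne_bot_of_le_ne_bot k1 (le_inf inf_le_right (k2.trans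
        (((Op_normal q _).conj_eq hyH).ge.trans (conj_mono _ k3)))))
    exact (M.mul_mem_cancel_left (h1.le ha)).1
      (hN ▸ conj_eq_self_iff.1 (eq_of_le_of_card_le k4 (card_conj _ _).le).symm)
  push Not at hc
  have cop : ∀ a ∈ Q, (♯Q).Coprime ♯(closure ({x, a * g * x * (a * g)⁻¹} : Set G)) := fun a ha =>
    coprime_of_isPGroup hpg ((piGrp_compl_singleton hq.out).2 fun hdv => by
      obtain ⟨w, hw, e'⟩ := cauchy hq.out hdv
      have k1 := h.le_Op hqp h1.co.1 (zpowers_le.2 (pair_le (self_mem_WW h1.x_mem)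
        (mem_WW (hm a ha)) hw)) (isPGroup_of_card_prime_pow (n := 1)
          (by rw [Nat.card_zpowers, e', pow_one]))
      have k2 : w ∈ (⊥ : Subgroup G) :=
        hc a ha ▸ mem_inf.2 ⟨hw, h.Op_eq hqp hd h1 ▸ k1 (mem_zpowers w)⟩
      rw [mem_bot.1 k2, orderOf_one] at e'
      exact hq.out.one_lt.ne e')
  obtain ⟨a, ha, a1⟩ := exists_mem_ne_one h1.max.ne
  have hdK : g * x * g⁻¹ ∈ closure ({x, 1 * g * x * (1 * g)⁻¹} : Set G) := by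
    rw [one_mul]; exact right_mem_pair _ _
  obtain ⟨n, hn, k1⟩ := sz_le_conj (hN ▸ pair_le h1.x_mem (hm 1 Q.one_mem))
    (pair_le (mem_sup_right (left_mem_pair _ _)) (e a ▸ mul_mem (mul_mem (mem_sup_left ha)
      (mem_sup_right hdK)) (inv_mem (mem_sup_left ha)))) (cop 1 Q.one_mem) (cop a ha)
    (.inl (sol_of_isPGroup hpg))
  have k2 : n⁻¹ ∈ Q ⊓ 𝐂[x] := mem_inf.2 ⟨Q.inv_mem hn, mem_cent1_of_inf (hc 1 Q.one_mem) hx
    (Q.inv_mem hn) (left_mem_pair _ _) (by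
      rw [inv_inv]; exact mem_conj.1 (k1 (left_mem_pair _ _)))⟩
  rw [inf_cent1_eq_bot hd hpg, mem_bot, inv_eq_one] at k2
  rw [k2, ← conj_eq_map, one_conj] at k1
  have k3 : a ∈ Q ⊓ 𝐂[g * x * g⁻¹] := mem_inf.2 ⟨ha, mem_cent1_of_inf (hc 1 Q.one_mem) (hN ▸ hg) ha
    hdK (e a ▸ k1 (right_mem_pair _ _))⟩
  rw [inf_cent1_eq_bot (card_cent1_conj g x ▸ hd) hpg] at k3
  exact absurd k3 a1

theorem fix (h1 : Asc q x Q M) (hg : g * x * g⁻¹ ∈ M) : g ∈ M := by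
  by_cases hu : Uq q x
  · exact h.fix_of_uq hqp hu h1 hg
  · exact h.fix_of_not_dvd hqp (h.not_dvd hqp hu) h1 hg

theorem pg_le (h1 : Asc q x Q M) (hP : IsPGroup p P) (hx : x ∈ P) : P ≤ M :=
  pclimb h1.x_mem (fun _ k _ => h.fix hqp h1 k) hP hx

theorem eq_of_conj (h1 : Asc q x Q M) (hx : x ∈ g •ᶜ M) : g •ᶜ M = M :=
  conj_eq_of_mem (M.inv_mem_iff.1 (h.fix hqp h1 (by rw [inv_inv]; exact mem_conj.1 hx)))

theorem norm_le_of_le (hd : ¬ q ∣ ♯𝐂[x]) (h1 : Asc q x Q M) (E : Subgroup G) :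
    E ≤ Q → E ≠ ⊥ → x ∈ 𝐍(E) → 𝐍(E) ≤ M := by
  induction E using WellFoundedGT.induction with | _ E ih => ?_
  intro hE hne hx
  rcases hE.lt_or_eq with hlt | e
  swap
  · exact e ▸ h.normQ_le hqp h1
  have k1 := lt_inf_norm_of_nil (nil_of_isPGroup h1.max.mem.pg) hlt
  have k2 := k1.trans_le (h.mem_le_Op hqp (h.norm_ne_top' (h1.max.mem.pg.to_le hE) hne) hx
    (h.mem_of_not_dvd hqp hd (h1.max.mem.pg.to_le inf_le_left)
      (mem_norm_inf h1.max.mem.norm (le_normalizer hx))) inf_le_right)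
  have k3 : x ∈ 𝐍(Op q 𝐍(E)) := (Op_normal q _).2 hx
  exact (Op_normal q _).2.trans (ih _ k2 (h.le_of_inf hqp h1.max (h.mem_of_not_dvd hqp hd
    (Op_isPGroup q _) k3) (ne_bot_of_le_ne_bot hne (le_inf k2.le hE))) (ne_bot_of_gt k2) k3)

theorem le_of_inf_ne (hd : ¬ q ∣ ♯𝐂[x]) (h1 : Asc q x Q M) (hL : L ≠ ⊤) (hx : x ∈ L)
    (hne : L ⊓ Q ≠ ⊥) : L ≤ M := by
  have k1 := h.mem_le_Op hqp hL hx (h.mem_of_not_dvd hqp hd (h1.max.mem.pg.to_le inf_le_right)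
    (mem_norm_inf (le_normalizer hx) h1.max.mem.norm)) inf_le_left
  have k3 : x ∈ 𝐍(Op q L) := (Op_normal q _).2 hx
  exact (Op_normal q _).2.trans (h.norm_le_of_le hqp hd h1 _ (h.le_of_inf hqp h1.max
    (h.mem_of_not_dvd hqp hd (Op_isPGroup q _) k3)
    (ne_bot_of_le_ne_bot hne (le_inf k1 inf_le_right))) (ne_bot_of_le_ne_bot hne k1) k3)

end Cex

end Cfsg.Agent.F2
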