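import Cfsg.Agent.Lib.F2.Fix

/-!
# The intersection `J` of the maximal subgroups attached to maximal members
-/

set_option autoImplicit false

namespace Cfsg.Agent.F2

open Subgroup Cfsg.Agent.OO Cfsg.Agent.Coprime
open scoped Pointwise commutatorElement

universe u

variable {G : Type u} [Group G] {p q r : ℕ} {x y g a b c d l n w u : G}
  {A B E F H I K L M M' P Q Q' S T U X : Subgroup G}

/-- `M` is attached to some maximal member -/
def IsM (p : ℕ) (x : G) (M : Subgroup G) : Prop := ∃ q Q, q.Prime ∧ q ≠ p ∧ Asc q x Q M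

/-- the intersection of all attached maximal subgroups -/
def JJ (p : ℕ) (x : G) : Subgroup G := sInf {M | IsM p x M}

theorem IsM.ge (h : IsM p x M) : JJ p x ≤ M := sInf_le h

theorem le_JJ (h : ∀ M, IsM p x M → H ≤ M) : H ≤ JJ p x := le_sInf h

theorem mem_JJ (h : ∀ M, IsM p x M → g ∈ M) : g ∈ JJ p x := mem_sInf.2 h

theorem IsM.co (h : IsM p x M) : IsCoatom M := let ⟨_, _, _, _, k⟩ := h; k.co

theorem IsM.x_mem (h : IsM p x M) : x ∈ M := let ⟨_, _, _, _, k⟩ := h; k.x_mem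

theorem Asc.isM [hq : Fact q.Prime] (h : Asc q x Q M) (hqp : q ≠ p) : IsM p x M :=
  ⟨q, Q, hq.out, hqp, h⟩

theorem x_mem_JJ (p : ℕ) (x : G) : x ∈ JJ p x := mem_JJ fun _ h => h.x_mem

variable [Finite G]

theorem constt_mem_Op [Fact q.Prime] (ha : a ∈ Fit L) : constt {q} a ∈ Op q L :=
  zpowers_le.1 (le_Op_of_le_Fit (isPGroup_zpowers_iff.2 (piElt_constt _ a))
    (zpowers_le.2 (constt_mem _ ha)))

theorem mem_of_Fit (ha : a ∈ Fit L) (h : ∀ q : ℕ, q.Prime → q ∣ orderOf a → Op q L ≤ T) : a ∈ T :=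
  mem_of_forall_constt_mem fun q hq hd => h q hq hd (by
    haveI := Fact.mk hq
    exact constt_mem_Op ha)

namespace Cex

variable [hp : Fact p.Prime] (h : Cex p x)
include h

theorem normX_le_J : 𝐍(zpowers x) ≤ JJ p x := le_JJ fun _ ⟨_, _, k1, k2, k3⟩ =>
  haveI := Fact.mk k1; h.normX_le k2 k3

theorem cent1_le_J : 𝐂[x] ≤ JJ p x := (cent1_le_norm x).trans h.normX_le_J

theorem fixM (hM : IsM p x M) (hg : g * x * g⁻¹ ∈ M) : g ∈ M :=
  let ⟨_, _, k1, k2, k3⟩ := hM; haveI := Fact.mk k1; h.fix k2 k3 hg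

theorem fixJ (hg : g * x * g⁻¹ ∈ JJ p x) : g ∈ JJ p x := mem_JJ fun _ k => h.fixM k (k.ge hg)

theorem pg_le_J (hP : IsPGroup p P) (hx : x ∈ P) : P ≤ JJ p x := le_JJ fun _ ⟨_, _, k1, k2, k3⟩ =>
  haveI := Fact.mk k1; h.pg_le k2 k3 hP hx

theorem pg_WW (hH : H ≠ ⊤) (hc : ∀ q : ℕ, q.Prime → q ≠ p → ∀ g, g * x * g⁻¹ ∈ H →
    th q (g * x * g⁻¹) H = ⊥) : IsPGroup p (WW x H) := by
  obtain ⟨P, hP⟩ := exists_syl p (WW x H)
  have k1 : WW x H ≤ 𝐍(P) := le_of_forall_syl fun q hq _ => by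
    by_cases e : q = p
    · exact ⟨P, e ▸ hP, le_normalizer⟩
    haveI := Fact.mk hq
    obtain ⟨Q, hQ⟩ := exists_syl q (WW x H)
    refine ⟨Q, hQ, le_norm_of_le_cent ((h.le_Op e hH hQ.le hQ.isPGroup).trans (le_cent_symm
      (hP.le.trans (WW_le_iff.2 fun g hg => zpowers_le.1 ?_))))⟩
    exact commutator_eq_bot_iff'.1 (hc q hq e g hg)
  exact hP.isPGroup.to_le (WW_le_iff.2 fun g hg => zpowers_le.1
    (hP.le_of_normal_syl k1 (zpowers_le.2 (mem_WW hg)) (h.conj g).pg_X))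

theorem exists_isM : ∃ M, IsM p x M := by
  by_contra! e
  have k1 : x ∈ pCore p G := Core.mem_pCore_iff_forall_closure.2 fun g =>
    (h.pg_WW (h.h2 _) fun q hq hqp a ha => by
      haveI := Fact.mk hq
      by_contra hne
      have k2 := ((h.conj a).mem_th hqp ha).conj a⁻¹
      rw [show a⁻¹ * (a * x * a⁻¹) * a⁻¹⁻¹ = x by group] at k2
      obtain ⟨Q, k3, -⟩ := k2.exists_max (conj_eq_bot_iff.not.2 hne)
      obtain ⟨M, k4⟩ := h.exists_asc k3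
      exact e M (k4.isM hqp)).to_le
      (pair_le (self_mem_WW (left_mem_pair _ _)) (mem_WW (right_mem_pair _ _)))
  rw [← Op_top] at k1
  exact h.ne_one (mem_bot.1 (h.fit ▸ Op_le_Fit p ⊤ k1))

theorem J_ne_top : JJ p x ≠ ⊤ := let ⟨_, k⟩ := h.exists_isM; ne_top_of_le_ne_top k.co.1 k.ge

theorem exists_decomp (hL : L ≠ ⊤) (hx : x ∈ L) (hl : l ∈ L) :
    ∃ a ∈ Fit L, PiElt ({p} : Set ℕ)ᶜ a ∧ a⁻¹ * l ∈ JJ p x := by
  obtain ⟨P, hP, hxP⟩ := exists_syl_ge (zpowers_le.2 (self_mem_WW hx)) h.pg_X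
  have k1 : WW x L ≤ Op' p (Fit L) ⊔ P := le_of_forall_syl fun q hq _ => by
    by_cases e : q = p
    · exact ⟨P, e ▸ hP, le_sup_right⟩
    haveI := Fact.mk hq
    obtain ⟨Q, hQ⟩ := exists_syl q (WW x L)
    exact ⟨Q, hQ, (h.le_Op e hL hQ.le hQ.isPGroup).trans
      ((Op_Fit q L ▸ Op_le_Op' e _).trans le_sup_left)⟩
  obtain ⟨w, hw, k2⟩ := hP.exists_le_conj' (zpowers_le.2
    (mem_WW (L.mul_mem (L.mul_mem hl hx) (L.inv_mem hl)))) (h.conj l).pg_X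
  obtain ⟨a, ha, v, hv, rfl⟩ := (mem_sup_norm_left
    ((hP.le.trans (WW_le x L)).trans ((Fit_normal L).Opi _).2)).1 (k1 hw)
  refine ⟨a, Opi_le _ _ ha, (Op'_piGrp p _).piElt ha, h.fixJ (h.pg_le_J hP.isPGroup
    (hxP (mem_zpowers x)) ?_)⟩
  rw [← conj_conj, conj_eq_of_mem hv] at k2
  have := mem_conj.1 (k2 (mem_zpowers _))
  rwa [show a⁻¹ * (l * x * l⁻¹) * a = a⁻¹ * l * x * (a⁻¹ * l)⁻¹ by group] at this

theorem Op_le_of [Fact q.Prime] (hqp : q ≠ p) (hx : x ∈ L) (h1 : th q x L ≤ T) (h2 : 𝐂[x] ≤ T) :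
    Op q L ≤ T :=
  h.le_of_decomp hqp (Op_isPGroup q L) ((Op_normal q L).2 hx) h1 (inf_le_right.trans h2)

theorem le_of_th (hL : L ≠ ⊤) (hx : x ∈ L) (hT : JJ p x ≤ T)
    (h1 : ∀ q : ℕ, q.Prime → q ≠ p → th q x L ≤ T) : L ≤ T := fun l hl => by
  obtain ⟨a, k1, k2, k3⟩ := h.exists_decomp hL hx hl
  refine (T.mul_mem_cancel_left (T.inv_mem (mem_of_Fit k1 fun q hq hd => ?_))).1 (hT k3)
  haveI := Fact.mk hq
  exact h.Op_le_of (k2 q hq hd) hx (h1 q hq (k2 q hq hd)) (h.cent1_le_J.trans hT)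

theorem exists_ne (hM : IsM p x M) : ∃ M', IsM p x M' ∧ M' ≠ M := by
  by_contra! e
  refine hM.co.1 (eq_top_iff.2 fun y _ => h.le_of_th (h.h2 y) (left_mem_pair x y) hM.ge
    (fun q hq hqp => ?_) (right_mem_pair x y))
  haveI := Fact.mk hq
  by_cases k : th q x (closure {x, y}) = ⊥
  · exact k ▸ bot_le
  obtain ⟨Q, k1, k2⟩ := (h.mem_th hqp (left_mem_pair x y)).exists_max k
  obtain ⟨M', k3⟩ := h.exists_asc k1
  exact e M' (k3.isM hqp) ▸ k2.trans k3.le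

theorem th_J [hr : Fact r.Prime] (hrp : r ≠ p) : th r x (JJ p x) = ⊥ := by
  by_contra hne
  have hE := h.mem_th hrp (x_mem_JJ p x)
  have hEJ : th r x (JJ p x) ≤ JJ p x := th_le (x_mem_JJ p x)
  have hC : 𝐂[x] ≤ 𝐍(th r x (JJ p x)) := fun c hc =>
    mem_norm_th (le_normalizer (h.cent1_le_J hc)) (cent1_le_norm x hc)
  generalize th r x (JJ p x) = E at *
  obtain ⟨Q, k1, k2⟩ := hE.exists_max hne
  obtain ⟨M, k3⟩ := h.exists_asc k1
  have k4 : ∀ q (_ : Fact q.Prime) Q' M', q ≠ p → Asc q x Q' M' → E ≤ Op r M' :=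
    fun q _ Q' M' e k => h.mem_le_Op hrp k.co.1 k.x_mem hE (hEJ.trans (k.isM e).ge)
  have key : ∀ y, y •ᶜ E ≤ Op r M := fun y => by
    have hx := left_mem_pair x y⁻¹
    obtain ⟨a, a1, a2, a3⟩ := h.exists_decomp (h.h2 y⁻¹) hx (right_mem_pair x y⁻¹)
    have b1 : constt {r} a ∈ M := h.Op_le_of hrp hx (by
      by_cases k : th r x (closure {x, y⁻¹}) = ⊥
      · exact k ▸ bot_le
      obtain ⟨Q', q1, q2⟩ := (h.mem_th hrp hx).exists_max k
      obtain ⟨M', q3⟩ := h.exists_asc q1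
      have q4 := h.le_th hrp q3.co.1 q3.x_mem hE (hEJ.trans (q3.isM hrp).ge)
      rw [h.th_eq hrp q1 q3.co.1 q3.x_mem q3.le] at q4
      exact (h.ti hrp q1 k1 (ne_bot_of_le_ne_bot hne (le_inf q4 k2)) ▸ q2).trans k3.le)
      (h.cent1_le_asc hrp k3) (constt_mem_Op a1)
    have b2 : constt {r}ᶜ a ∈ 𝐍(E) := mem_of_Fit (constt_mem _ a1) fun q hq hd => by
      haveI := Fact.mk hq
      have e1 : q ≠ r := piElt_constt _ a q hq hd
      have e2 : q ≠ p := a2.of_mem_zpowers (constt_mem_zpowers _ a) q hq hd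
      refine h.Op_le_of e2 hx ?_ hC
      by_cases k : th q x (closure {x, y⁻¹}) = ⊥
      · exact k ▸ bot_le
      obtain ⟨Q', q1, q2⟩ := (h.mem_th e2 hx).exists_max k
      obtain ⟨M', q3⟩ := h.exists_asc q1
      exact le_norm_of_le_cent ((q2.trans (h.le_Op_asc e2 q3)).trans
        ((Op_le_cent_Op e1 M').trans (cent_anti (k4 q inferInstance Q' M' e2 q3))))
    have e : y = (a⁻¹ * y⁻¹)⁻¹ * (constt {r} a)⁻¹ * (constt {r}ᶜ a)⁻¹ := by
      rw [mul_assoc, ← mul_inv_rev (constt {r}ᶜ a), constt_compl_mul_constt]; group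
    rw [e, ← conj_conj, conj_eq_of_mem_norm (inv_mem b2)]
    exact conj_le_of_mem_norm ((Op_normal r M).2 (M.mul_mem (M.inv_mem ((k3.isM hrp).ge a3))
      (M.inv_mem b1))) (k4 r hr Q M hrp k3)
  refine h.norm_ne_top' (Q := sSup {X | ∃ y, X = y •ᶜ E}) ((Op_isPGroup r M).to_le
    (sSup_le fun _ ⟨y, e⟩ => e ▸ key y)) (ne_bot_of_le_ne_bot hne (le_sSup ⟨1, by simp⟩))
    (eq_top_iff.2 (le_norm_sSup fun a _ _ ⟨y, e⟩ => ⟨a * y, by rw [e, conj_conj]⟩))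

theorem mem_eq_bot [Fact r.Prime] (hrp : r ≠ p) (hE : Mem r x E) (hle : E ≤ JJ p x) : E = ⊥ :=
  eq_bot_iff.2 (h.th_J hrp ▸ h.le_th hrp h.J_ne_top (x_mem_JJ p x) hE hle)

theorem inf_J_le [Fact r.Prime] (hrp : r ≠ p) (hU : IsPGroup r U) (hx : x ∈ 𝐍(U)) :
    U ⊓ JJ p x ≤ 𝐂[x] := by
  have k1 : x ∈ 𝐍(U ⊓ JJ p x) := mem_norm_inf hx (le_normalizer (x_mem_JJ p x))
  have k2 := h.mem_eq_bot hrp (h.mem_comm hrp (hU.to_le inf_le_left) k1)
    ((commutator_le_left' (zpowers_le.2 k1)).trans inf_le_right)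
  rwa [OO.commutator_eq_bot_iff, cent_zpowers] at k2

theorem pg_W : IsPGroup p (WW x (JJ p x)) := h.pg_WW h.J_ne_top fun q hq hqp g hg => by
  haveI := Fact.mk hq
  have k1 := congrArg (g •ᶜ ·) (h.th_J hqp)
  simp only [th, conj_commutator, conj_zpowers, conj_bot] at k1
  rwa [(Op_normal q _).conj_eq (h.fixJ hg)] at k1

end Cex

end Cfsg.Agent.F2
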