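import Cfsg.Agent.Lib.F2.Basic
import Cfsg.Agent.Lib.Mod.FitHeight

/-!
# The preimage of `O_p(H / F(H))`
-/

set_option autoImplicit false

namespace Cfsg.Agent.F2

open Subgroup Cfsg.Agent.OO Cfsg.Agent.Coprime
open scoped Pointwise commutatorElement

universe u

variable {G : Type u} [Group G] [Finite G] {G' : Type*} [Group G'] [Finite G'] {p : ℕ} {x y w g : G}
  {H K W : Subgroup G}

/-- the preimage of `O_p(H / F(H))` -/
def KK (p : ℕ) (H : Subgroup G) : Subgroup G := quoPre (Fit H) (Op p (H ⁒ Fit H))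

theorem KK_normal (p : ℕ) (H : Subgroup G) : KK p H ⊴ H :=
  quoPre_normal (Fit_normal H) (Op_normal _ _)

variable [hp : Fact p.Prime]

theorem pow_mem_Fit (h : w ∈ KK p H) : ∃ k, w ^ p ^ k ∈ Fit H := by
  obtain ⟨h1, h2⟩ := mem_quoPre.1 h
  obtain ⟨k, hk⟩ := Op_isPGroup p _ ⟨_, h2⟩
  exact ⟨k, (coset_eq_one_iff (pow_mem h1 _)).1 (by
    rw [coset_pow h1]; exact congrArg Subtype.val hk)⟩

omit [Finite G] hp in
theorem mem_of_pow_mem {k : ℕ} (h : w ^ p ^ k ∈ H) (hc : (orderOf w).Coprime p) : w ∈ H := by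
  obtain ⟨m, hm⟩ := exists_pow_eq_self_of_coprime (hc.symm.pow_left k)
  exact hm ▸ pow_mem h m

theorem Oup_KK_le (p : ℕ) [Fact p.Prime] (H : Subgroup G) : Oup p (KK p H) ≤ Fit H :=
  Oup_le_iff.2 fun _ hx hc => by
    obtain ⟨k, hk⟩ := pow_mem_Fit hx
    exact mem_of_pow_mem hk hc

theorem nil_Oup (h : W ≤ KK p H) : Nil (Oup p W) :=
  nil_of_le (Fit_nil H) ((Oup_mono p h).trans (Oup_KK_le p H))

theorem isPGroup_of_Oup (h : Oup p W = ⊥) : IsPGroup p W := by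
  obtain ⟨P, hP⟩ := exists_syl p W
  have := (Oup_isProd hP).sup_eq
  rw [h, bot_sup_eq] at this
  exact this ▸ hP.isPGroup

theorem le_KK (h : W ⊴ H) (hn : Nil (Oup p W)) : W ≤ KK p H := by
  have k1 : W ≤ 𝐍(Fit H) := h.le.trans (Fit_normal H).norm
  refine (quo_le_iff_le_quoPre k1).1 (le_Op (h.quo _) (isPGroup_of_Oup ?_))
  rw [← quo_Oup k1]
  exact quo_eq_bot (le_Fit ⟨(Oup_le p W).trans h.le, h.norm.trans (norm_le_norm_Oup p W)⟩ hn)

theorem mem_KK_of_le (h : K ≤ H) (hx : x ∈ KK p H) (hK : x ∈ K) : x ∈ KK p K :=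
  le_KK (W := KK p H ⊓ K) ⟨inf_le_right, le_norm_inf (h.trans (KK_normal p H).norm) le_normalizer⟩
    (nil_Oup inf_le_left) (mem_inf.2 ⟨hx, hK⟩)

theorem map_mem_KK (f : G →* G') (hx : x ∈ KK p H) : f x ∈ KK p (H.map f) :=
  le_KK ((KK_normal p H).map f) (by rw [← map_Oup]; exact Core.isNilpotent_map (nil_Oup le_rfl) f)
    (mem_map_of_mem f hx)

theorem mem_KK_of_map {f : G →* G'} (hf : Function.Injective f) (hH : x ∈ H)
    (hx : f x ∈ KK p (H.map f)) : x ∈ KK p H := by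
  refine le_KK (W := (KK p (H.map f)).comap f ⊓ H) ⟨inf_le_right, le_norm_iff.2 fun a ha w hw =>
    mem_inf.2 ⟨?_, mul_mem (mul_mem ha hw.2) (inv_mem ha)⟩⟩ (Fit_eq_self_iff.1 (map_injective hf ?_))
    (mem_inf.2 ⟨hx, hH⟩)
  · rw [mem_comap, map_mul, map_mul, map_inv]
    exact conj_mem_of_norm ((KK_normal p _).norm (mem_map_of_mem f ha)) hw.1
  · rw [map_Fit hf, map_Oup]
    exact Fit_eq_self (nil_Oup (map_le_iff_le_comap.2 inf_le_left))

theorem KK_eq_bot (h : Fit H = ⊥) : KK p H = ⊥ :=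
  eq_bot_iff.2 (h ▸ le_Fit (KK_normal p H)
    (nil_of_isPGroup (isPGroup_of_Oup (eq_bot_iff.2 (h ▸ Oup_KK_le p H)))))

end Cfsg.Agent.F2
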