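import Cfsg.Agent.Lib.F2.Exc

/-!
# There is no counterexample with trivial Fitting subgroup
-/

set_option autoImplicit false

namespace Cfsg.Agent.F2

open Subgroup Cfsg.Agent.OO Cfsg.Agent.Coprime
open scoped Pointwise commutatorElement

universe u

variable {G : Type u} [Group G] [Finite G] {p q r : ℕ} {x y g a b c d l n w u : G}
  {A B E F H I K L M M' P Q Q' R S T U X : Subgroup G}

/-- attached to a maximal member for a prime without a largest member -/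
def IsN (p : ℕ) (x : G) (M : Subgroup G) : Prop :=
  ∃ q Q, q.Prime ∧ q ≠ p ∧ ¬ Uq q x ∧ Asc q x Q M

theorem mem_norm_zpowers (h : g * x * g⁻¹ ∈ zpowers x) : g ∈ 𝐍(zpowers x) :=
  mem_norm_of_conj_le (conj_zpowers g x ▸ zpowers_le.2 h)

namespace Cex

variable [hp : Fact p.Prime] (h : Cex p x)
include h

theorem false_of_map {ι : Type} (s : Finset ι) (hs : s.card ≤ p - 1) (φ : Subgroup G → ι → Prop)
    (h1 : ∀ M, IsN p x M → ∃ i ∈ s, φ M i)
    (h2 : ∀ M M' i, IsN p x M → IsN p x M' → φ M i → φ M' i → M = M') : False := by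
  classical
  haveI := Fintype.ofFinite (Subgroup G)
  choose f f1 f2 using h1
  refine h.count2 (Finset.univ.filter (IsN p x)) (fun M hM => ?_) (le_trans ?_ hs)
    fun q Q M a1 a2 a3 a4 => by simpa using ⟨q, Q, a1, a2, a3, a4⟩
  · obtain ⟨q, Q, a1, a2, -, a4⟩ := (Finset.mem_filter.1 hM).2
    exact ⟨q, Q, a1, a2, a4⟩
  · rw [← Fintype.card_subtype, ← Fintype.card_coe]
    exact Fintype.card_le_of_injective (fun M => ⟨f M.1 M.2, f1 _ _⟩) fun M M' e =>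
      Subtype.ext (h2 _ _ _ M.2 M'.2 (f2 _ _) (by
        have := f2 M'.1 M'.2
        rwa [← Subtype.mk.inj e] at this))

theorem false_of_comm (hg : g * x * g⁻¹ ∈ 𝐂[x]) (hg' : g * x * g⁻¹ ∉ zpowers x) : False := by
  classical
  have h' := h.conj g
  have hcd : ♯𝐂[g * x * g⁻¹] = ♯𝐂[x] := card_cent1_conj g x
  generalize g * x * g⁻¹ = d at *
  have hc : Commute d x := mem_cent1.1 hg
  have hcc : zpowers d ≤ 𝐂(zpowers x) := cent_zpowers x ▸ zpowers_le.2 hg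
  have ab : Ab (zpowers x ⊔ zpowers d) :=
    ab_sup (ab_of_isCyclic inferInstance) (ab_of_isCyclic inferInstance) (le_cent_symm hcc)
  have dec : ∀ a ∈ zpowers x ⊔ zpowers d, ∃ u ∈ zpowers x, ∃ v ∈ zpowers d, Commute u v ∧ u * v = a :=
    fun a ha => by
      obtain ⟨u, hu, v, hv, e⟩ := (mem_sup_norm_left (le_norm_of_le_cent hcc)).1 ha
      exact ⟨u, hu, v, hv, mem_cent_iff.1 (hcc hv) u hu, e⟩
  have nc : ¬ IsCyclic ↥(zpowers x ⊔ zpowers d) := fun e => by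
    obtain ⟨a, ha⟩ := exists_zpowers_eq e
    obtain ⟨u, hu, v, hv, c, e'⟩ := dec a (ha ▸ mem_zpowers a)
    have k1 : a ^ p = 1 := by
      rw [← e', c.mul_pow, orderOf_dvd_iff_pow_eq_one.1 (h.card_X ▸ orderOf_dvd_card hu),
        orderOf_dvd_iff_pow_eq_one.1 (h'.card_X ▸ orderOf_dvd_card hv), mul_one]
    have k2 : zpowers x = zpowers x ⊔ zpowers d := eq_of_le_of_card_le le_sup_left (by
      rw [← ha, h.card_X, Nat.card_zpowers]
      exact Nat.le_of_dvd hp.out.pos (orderOf_dvd_of_pow_eq_one k1))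
    exact hg' (k2.ge (mem_sup_right (mem_zpowers d)))
  refine h.false_of_map (Finset.Ico 1 p) (by simp) (fun M k => ∃ q Q, q.Prime ∧ q ≠ p ∧ ¬ Uq q x ∧
    Asc q x Q M ∧ Q ⊓ 𝐂[x ^ k * d] ≠ ⊥) (fun M ⟨q, Q, hq, hqp, hu, k⟩ => ?_)
    fun M M' i _ _ ⟨q, Q, hq, hqp, hu, k, e⟩ ⟨r, R, hr, hrp, hu', k', e'⟩ => ?_
  · haveI := Fact.mk hq
    by_contra! e
    have hd := h.not_dvd hqp hu
    refine k.max.ne (eq_bot_iff.2 (coprime_abelian_gen_cent1 ab nc
      (sup_le (zpowers_le.2 k.max.mem.norm) (zpowers_le.2 (h.cent1_le hqp k.max hg)))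
      (coprime_of_isPGroup_ne k.max.mem.pg (isPGroup_sup h.pg_X h'.pg_X
        (.inr (le_norm_of_le_cent hcc))) hqp) fun a ha a1 => ?_))
    obtain ⟨u, hu', v, hv, c, rfl⟩ := dec a ha
    by_cases v1 : v = 1
    · rw [v1, mul_one] at a1 ⊢
      rw [← cent_zpowers, eq_zpowers_of_prime (h.card_X ▸ hp.out) hu' a1, cent_zpowers,
        inf_cent1_eq_bot hd k.max.mem.pg]
    obtain ⟨m, hm⟩ := mem_powers_iff_mem_zpowers.2
      (eq_zpowers_of_prime (h'.card_X ▸ hp.out) hv v1 ▸ mem_zpowers d : d ∈ zpowers v)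
    obtain ⟨i, hi, e'⟩ := Finset.mem_image.1 (mem_zpowers_iff_mem_range_orderOf.1 (pow_mem hu' m))
    have k1 : 𝐂[u * v] ≤ 𝐂[x ^ i * d] := cent1_le_of_mem_zpowers (by
      rw [e', ← hm, ← c.mul_pow]; exact npow_mem_zpowers _ _)
    refine (inf_le_inf_left _ k1).trans (le_of_eq ?_)
    rcases Nat.eq_zero_or_pos i with rfl | i0
    · rw [pow_zero, one_mul]
      exact inf_cent1_eq_bot (hcd ▸ hd) k.max.mem.pg
    · exact e i (Finset.mem_Ico.2 ⟨i0, h.ord ▸ Finset.mem_range.1 hi⟩) q Q hq hqp hu k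
  · haveI := Fact.mk hq
    haveI := Fact.mk hr
    exact h.eq_of_cent hqp (h.not_dvd hqp hu) hrp (h.not_dvd hrp hu') k k'
      (mul_mem (pow_mem (mem_cent1_self x) i) hg)
      (fun e => hg' (eq_inv_of_mul_eq_one_right e ▸ inv_mem (npow_mem_zpowers x i))) e e'

theorem false_of_norm (hJ : JJ p x ≤ 𝐍(zpowers x)) : False := by
  have key : ∀ q : ℕ, q.Prime → q ≠ p → ¬ Uq q x → q = 2 ∧ p = 3 := fun q hq hqp hu => by
    haveI := Fact.mk hq
    have hd := h.not_dvd hqp hu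
    obtain ⟨R, hR⟩ := exists_syl q (JJ p x)
    by_contra e
    have k1 : ∀ Q M, Asc q x Q M → thompsonSubgroupOf q (Q ⊔ R) ≤ Q := fun Q M k => by_contra fun e' =>
      e ⟨(h.exc hqp hd hJ k hR e').1, (h.exc hqp hd hJ k hR e').2.1⟩
    refine hu (uq_of_forall fun Q Q' a1 a2 => ?_)
    obtain ⟨M, m1⟩ := h.exists_asc a1
    obtain ⟨M', m2⟩ := h.exists_asc a2
    rw [← h.Op_eq hqp hd m1, h.nonexc_eq hqp hd m1 m2 hR (k1 Q M m1) (k1 Q' M' m2), h.Op_eq hqp hd m2]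
  obtain ⟨r, hr, hrp, hu⟩ := h.exists_not_uq
  obtain ⟨rfl, p3⟩ := key r hr hrp hu
  have hd := h.not_dvd hrp hu
  obtain ⟨R, hR⟩ := exists_syl 2 (JJ p x)
  refine h.false_of_map (Finset.univ : Finset Prop) (by simp [p3])
    (fun M i => (thompsonSubgroupOf 2 (Op 2 M ⊔ R) ≤ Op 2 M) = i) (fun M _ => ⟨_, Finset.mem_univ _, rfl⟩)
    fun M M' i ⟨q, Q, a1, a2, a3, a4⟩ ⟨q', Q', b1, b2, b3, b4⟩ e e' => ?_
  obtain ⟨rfl, -⟩ := key q a1 a2 a3
  obtain ⟨rfl, -⟩ := key q' b1 b2 b3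
  rw [h.Op_eq hrp hd a4] at e
  rw [h.Op_eq hrp hd b4, ← e] at e'
  by_cases k : thompsonSubgroupOf 2 (Q ⊔ R) ≤ Q
  · exact h.nonexc_eq hrp hd a4 b4 hR k (e' ▸ k)
  · exact h.exc_eq hrp hd hJ a4 b4 hR k (e' ▸ k)

theorem false : False := by
  refine h.false_of_norm fun j hj => by_contra fun hn => ?_
  have hW := h.pg_W
  have hx := x_mem_JJ p x
  have key : ∀ g, g * x * g⁻¹ ∈ 𝐍(zpowers x) → g * x * g⁻¹ ∈ zpowers x := fun g hg =>
    by_contra fun e => h.false_of_comm (by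
      have k1 := le_of_prime_of_inf_ne_bot (h.card_X ▸ hp.out) (inf_cent_ne_bot_of_isPGroup
        (h.conj g).pg_X h.pg_X (zpowers_le.2 hg) (zpowers_eq_bot.not.2 h.ne_one))
      rw [cent_zpowers] at k1
      exact mem_cent1_comm.1 (k1 (mem_zpowers x))) e
  have k1 := eq_of_nil_of_inf_norm_le (nil_of_isPGroup hW) (inf_le_left (b := 𝐍(zpowers x)))
    fun y hy => mem_inf.2 ⟨hy.1, mem_norm_zpowers (key y (conj_mem_of_norm hy.2
      (mem_inf.2 ⟨self_mem_WW hx, le_normalizer (mem_zpowers x)⟩)).2)⟩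
  exact hn (mem_norm_zpowers (key j (inf_eq_left.1 k1 (mem_WW (mul_mem (mul_mem hj hx) (inv_mem hj))))))

end Cex

theorem noCex : NoCex.{u} := fun _ _ _ _ _ _ h => h.false

end Cfsg.Agent.F2
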