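import Cfsg.Agent.Lib.F2.RedA
import Cfsg.Agent.Lib.F2.NoCex

/-!
# Membership in the preimage of `O_p(G / F(G))` is detected by two-generated subgroups
-/

set_option autoImplicit false

namespace Cfsg.Agent.F2

open Subgroup Cfsg.Agent.OO Cfsg.Agent.Coprime
open scoped Pointwise commutatorElement

universe u

variable {G : Type u} [Group G] [Finite G] {G' : Type*} [Group G'] [Finite G'] {p : ℕ}
  {x d : G} {H : Subgroup G}

/-- the local hypothesis -/
def Loc (p : ℕ) (x : G) : Prop := ∀ y, x ∈ KK p (closure {x, y})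

variable [hp : Fact p.Prime]

theorem Loc.map (h : Loc p x) {f : G →* G'} (hf : Function.Surjective f) : Loc p (f x) := fun y => by
  obtain ⟨y, rfl⟩ := hf y
  have := map_mem_KK f (h y)
  rwa [MonoidHom.map_closure, Set.image_pair] at this

theorem Loc.conj (h : Loc p x) (g : G) : Loc p (g * x * g⁻¹) :=
  h.map (f := (MulAut.conj g).toMonoidHom) (MulAut.conj g).surjective

theorem Loc.pow (h : Loc p x) (hd : d ∈ zpowers x) : Loc p d := fun y =>
  mem_KK_of_le (pair_le (zpowers_le.2 (left_mem_pair x y) hd) (right_mem_pair x y))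
    (zpowers_le.2 (h y) hd) (left_mem_pair d y)

theorem Loc.sub (h : Loc p x) (hx : x ∈ H) : Loc p (⟨x, hx⟩ : H) := fun y =>
  mem_KK_of_map H.subtype_injective (left_mem_pair _ _) (by
    rw [MonoidHom.map_closure, Set.image_pair]; exact h y)

theorem false_of_fit {V : Subgroup G} (hV1 : V ≠ ⊥) (hm : ∀ N : Subgroup G, N.Normal → N ≠ ⊥ → V ≤ N)
    (ih : ∀ d : G, PiElt {p} d → Loc p d → ∀ H, H ≠ ⊤ → d ∈ H → d ∈ KK p H)
    (hF : Fit (⊤ : Subgroup G) = ⊥) (hx : PiElt {p} x) (h : Loc p x) (h1 : x ≠ 1) : False := by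
  obtain ⟨d, hd, hp'⟩ := exists_prime_order_mem (zpowers_eq_bot.not.2 h1)
  have hd' := hx.of_mem_zpowers hd
  have hl := h.pow hd
  have d1 : d ≠ 1 := fun e => hp'.ne_one (orderOf_eq_one_iff.2 e)
  refine noCex G p d ⟨(isPiNum_prime hp').1 hd', fun K H hK hKH hdH hH => by_contra fun e => d1 ?_,
    hF, fun H hH w hw => pow_mem_Fit (WW_le_iff.2 (fun g => ih _ (hd'.conj g) (hl.conj g) H hH) hw),
    fun y e => d1 ?_⟩
  · have hK' := normalIn_top.2 hK
    have k0 : ∀ N : Subgroup G, N ⊴ K → Nil N → N = ⊥ := fun N a b =>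
      eq_bot_iff.2 (((le_Fit a b).trans (Fit_le_of_normal hK')).trans hF.le)
    have k1 : 𝐂(K) = ⊥ := by_contra fun e' => hV1 (eq_bot_iff.2 ((le_inf (hm K hK e) (hm _
      (normalIn_top.1 ⟨le_top, le_norm_cent hK'.norm⟩) e')).trans (k0 _ (NormalIn.refl K).cent
        (nil_of_ab (ab_iff_le_cent.2 (inf_le_right.trans (cent_anti inf_le_left))))).le))
    have k2 : Fit H = ⊥ := eq_bot_iff.2 ((le_cent_of_inf_eq_bot (le_top.trans hK'.norm)
      (hKH.trans (Fit_normal H).norm) (k0 _ ((Fit_normal H).inf_right hKH)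
        (nil_of_le (Fit_nil H) inf_le_left))).trans k1.le)
    exact mem_bot.1 ((KK_eq_bot k2).le (ih d hd' hl H hH hdH))
  · have := hl y
    rwa [e, KK_eq_bot hF] at this

theorem mem_KK_step (ih : ∀ (H : Type u) [Group H] [Finite H], Nat.card H < Nat.card G →
    ∀ x : H, PiElt {p} x → Loc p x → x ∈ KK p ⊤) (hx : PiElt {p} x) (h : Loc p x) : x ∈ KK p ⊤ := by
  have ih1 : ∀ d : G, PiElt {p} d → Loc p d → ∀ H, H ≠ ⊤ → d ∈ H → d ∈ KK p H :=
    fun d hd h H hH hdH => by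
      have k0 : ♯H < Nat.card G := (card_lt (lt_top_iff_ne_top.2 hH)).trans_eq card_top
      have k1 : PiElt {p} (⟨d, hdH⟩ : H) := by rwa [PiElt, ← Subgroup.orderOf_coe]
      have := map_mem_KK H.subtype (ih H k0 ⟨d, hdH⟩ k1 (h.sub hdH))
      rwa [← MonoidHom.range_eq_map, range_subtype] at this
  by_contra hn
  have hg : ∀ N : Subgroup G, N.Normal → x ∈ N → N = ⊤ := fun N hN hxN => by_contra fun e =>
    hn (le_KK (WW_normal x ⊤) (nil_Oup (H := N) (WW_le_iff.2 fun g _ =>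
      ih1 _ (hx.conj g) (h.conj g) N e (hN.conj_mem x hxN g))) (self_mem_WW (mem_top x)))
  have hA : ¬ Nil (Oup p (⊤ : Subgroup G)) := fun e => hn (le_KK (.refl ⊤) e (mem_top x))
  have hq : ∀ (N : Subgroup G) [N.Normal], N ≠ ⊥ → Nil ((Oup p ⊤).map (QuotientGroup.mk' N)) :=
    fun N _ h1 => by
      have hs := QuotientGroup.mk'_surjective N
      have k := ih _ (Core.card_quotient_lt h1) _ (hx.map (QuotientGroup.mk' N)) (h.map hs)
      have k' := hg _ ((normalIn_top.1 (KK_normal p ⊤)).comap (QuotientGroup.mk' N)) k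
      rw [map_Oup]
      exact nil_Oup (map_le_iff_le_comap.2 k'.ge)
  haveI := normalIn_top.1 (Oup_normal p (⊤ : Subgroup G))
  have hm : ∀ N : Subgroup G, N.Normal → N ≠ ⊥ → Mod.nres (Oup p ⊤) ≤ N := fun N _ h1 =>
    (Mod.nres_le_ker_iff.2 (hq N h1)).trans (QuotientGroup.ker_mk' N).le
  have hV1 : Mod.nres (Oup p (⊤ : Subgroup G)) ≠ ⊥ := Mod.nres_eq_bot_iff.not.2 hA
  by_cases hF : Fit (⊤ : Subgroup G) = ⊥
  · exact false_of_fit hV1 hm ih1 hF hx h fun e => hn (e ▸ one_mem _)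
  · have hV : Core.IsMinNormal (Mod.nres (Oup p (⊤ : Subgroup G))) :=
      ⟨inferInstance, hV1, fun K hK hKV => by
        by_cases e : K = ⊥
        exacts [.inl e, .inr (le_antisymm hKV (hm K hK e))]⟩
    have hs := sol_of_nil (nil_of_le (Fit_nil ⊤) (hm _ (normalIn_top.1 (Fit_normal ⊤)) hF))
    obtain ⟨r, hr, hVr⟩ := hV.exists_isPGroup hs
    haveI := Fact.mk hr
    exact false_of_ab hV1 hVr (hV.isMulCommutative hs) hm hx hg hA (hq _ hV1) (ih1 x hx h)
      fun y e => hn (e ▸ h y)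

theorem Loc.mem_KK (h : Loc p x) (hx : PiElt {p} x) : x ∈ KK p ⊤ := by
  induction hn : Nat.card G using Nat.strong_induction_on generalizing G with
  | _ n ih => exact mem_KK_step (fun H _ _ hH y a b => ih _ (hn ▸ hH) b a rfl) hx h

/-- the second Fitting subgroup -/
theorem mem_F2_iff [(fittingSubgroup G).Normal] (hx : PiElt {p} x) :
    x ∈ (fittingSubgroup (G ⧸ fittingSubgroup G)).comap (QuotientGroup.mk' (fittingSubgroup G)) ↔
      x ∈ KK p ⊤ := by
  have hs := QuotientGroup.mk'_surjective (fittingSubgroup G)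
  refine ⟨fun h => le_KK (W := (Op p ⊤).comap (QuotientGroup.mk' (fittingSubgroup G)))
    (normalIn_top.2 ((normalIn_top.1 (Op_normal p ⊤)).comap _)) (nil_of_le (Fit_nil ⊤)
      (Oup_le_iff.2 fun y hy hc => ?_)) (le_Op_of_le_Fit (isPGroup_zpowers_iff.2 (hx.map _))
        (zpowers_le.2 (Fit_top.ge h)) (mem_zpowers _)), fun h => ?_⟩
  · rw [Fit_top]
    have k : PiElt ({p} : Set ℕ)ᶜ y :=
      (isPiNum_compl_singleton hp.out).2 (hp.out.coprime_iff_not_dvd.1 hc.symm)
    exact (QuotientGroup.eq_one_iff y).1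
      (((Op_piGrp p ⊤).piElt (mem_comap.1 hy)).eq_one (k.map (QuotientGroup.mk' _)))
  · rw [mem_comap, ← Fit_top (G := G ⧸ _)]
    refine le_Fit (normalIn_top.2 ((normalIn_top.1 (KK_normal p ⊤)).map _ hs))
      (nil_of_isPGroup (isPGroup_of_Oup (p := p) ?_)) (mem_map_of_mem _ h)
    rw [← map_Oup, Subgroup.map_eq_bot_iff, QuotientGroup.ker_mk', ← Fit_top]
    exact Oup_KK_le p ⊤

end Cfsg.Agent.F2
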