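import Cfsg.Agent.Lib.F2.KK
import Cfsg.Agent.Lib.Flav.TwoGen

/-!
# The reduction: the case of an abelian minimal normal subgroup
-/

set_option autoImplicit false

namespace Cfsg.Agent.F2

open Subgroup Cfsg.Agent.OO Cfsg.Agent.Coprime
open scoped Pointwise commutatorElement

universe u

variable {G : Type u} [Group G] [Finite G] {p q r : ℕ} {x a : G} {H K V Q : Subgroup G}

theorem exists_conj_norm (hV : Core.IsMinNormal V) (hc : Ab V) (hcop : (♯V).Coprime ♯Q)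
    (hN : (V ⊔ Q).Normal) (hK : K ≠ ⊤) (hKV : K ⊔ V = ⊤) :
    ∃ n ∈ V, ∀ b ∈ K, n⁻¹ * b * n ∈ 𝐍(Q) := by
  have hEn := hV.normal
  have hT : ∀ K : Subgroup G, K ≤ 𝐍(V) := fun K => le_top.trans (normalIn_top.2 hEn).norm
  have hBE := hV.inf_eq_bot_of_sup_eq_top hc hK hKV
  have h1 : (K ⊓ (V ⊔ Q)) ⊔ V = Q ⊔ V := by
    rw [← sup_inf_of_le_right (.inl (hT K)) le_sup_left, hKV, top_inf_eq, sup_comm]
  have h2 : ♯(K ⊓ (V ⊔ Q)) = ♯Q := by
    have h3 := card_sup_of_inf_eq_bot (.inl (hT (K ⊓ (V ⊔ Q))))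
      (eq_bot_iff.2 (hBE ▸ inf_le_inf_right V inf_le_left))
    rw [h1, card_sup_of_inf_eq_bot (.inl (hT Q)) (inf_eq_bot_of_coprime_card hcop.symm)] at h3
    exact (Nat.eq_of_mul_eq_mul_right Nat.card_pos h3).symm
  obtain ⟨n, hn, hQ'⟩ := sz_eq_conj (hT Q) inf_le_right hcop h2 (.inl (sol_of_nil (nil_of_ab hc)))
  have h3 : K ≤ 𝐍(n •ᶜ Q) := (show K ⊓ (V ⊔ Q) = n •ᶜ Q from hQ') ▸
    le_norm_inf le_normalizer (le_top.trans (normalIn_top.2 hN).norm)
  refine ⟨n, hn, fun b hb => ?_⟩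
  have := h3 hb
  rw [norm_conj] at this
  exact mem_conj.1 this

variable [hp : Fact p.Prime]

theorem piGrp_Oup (h : Nil (Oup p H)) : PiGrp ({p} : Set ℕ)ᶜ (Oup p H) :=
  (Opi_piGrp _ (Oup p H)).of_le (Oup_le_iff.2 fun _ hy hc => le_Opi_of_nil h
    (zpowers_le.2 (mem_Oup hy hc)) (piGrp_zpowers.2 ((isPiNum_compl_singleton hp.out).2
      (hp.out.coprime_iff_not_dvd.1 hc.symm))) (mem_zpowers _))

theorem false_of_ab [Fact r.Prime] [V.Normal] (hV1 : V ≠ ⊥) (hVr : IsPGroup r V) (hc : Ab V)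
    (hm : ∀ N : Subgroup G, N.Normal → N ≠ ⊥ → V ≤ N) (hx : PiElt {p} x)
    (hg : ∀ N : Subgroup G, N.Normal → x ∈ N → N = ⊤) (hA : ¬ Nil (Oup p (⊤ : Subgroup G)))
    (hA' : Nil ((Oup p ⊤).map (QuotientGroup.mk' V))) (h1 : ∀ H, H ≠ ⊤ → x ∈ H → x ∈ KK p H)
    (h2 : ∀ y, closure {x, y} ≠ ⊤) : False := by
  have hV : Core.IsMinNormal V := ⟨inferInstance, hV1, fun K hK hKV => by
    by_cases e : K = ⊥
    exacts [.inl e, .inr (le_antisymm hKV (hm K hK e))]⟩
  have hT : ∀ (N : Subgroup G) [N.Normal] (K : Subgroup G), K ≤ 𝐍(N) := fun N h K =>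
    le_top.trans (normalIn_top.2 h).norm
  set φ := QuotientGroup.mk' V with hφ
  have hs : Function.Surjective φ := QuotientGroup.mk'_surjective V
  have hker : ∀ g, φ g = 1 ↔ g ∈ V := fun g => QuotientGroup.eq_one_iff g
  set A := Oup p (⊤ : Subgroup G) with hAd
  haveI hAn : A.Normal := normalIn_top.1 (Oup_normal p ⊤)
  have hVA : V ≤ A := hm A hAn fun e => hA (e ▸ nil_bot)
  have hB : ∀ (q : ℕ) [Fact q.Prime] (Q : Subgroup G), Syl q Q A →
      (Q.map φ).Normal ∧ (V ⊔ Q).Normal := fun q _ Q hQ => by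
    have k : (Q.map φ).Normal := by
      rw [syl_eq_Op_of_nil hA' (hQ.hall.map φ).syl]
      exact normalIn_top.1 ((normalIn_top.2 (hAn.map φ hs)).Op q)
    refine ⟨k, ?_⟩
    have := k.comap φ
    rwa [hφ, QuotientGroup.comap_map_mk'] at this
  obtain ⟨q, hq, Q, hQ, hVQ⟩ : ∃ (q : ℕ) (_ : Fact q.Prime) (Q : Subgroup G),
      Syl q Q A ∧ ¬ V ≤ 𝐍(Q) := by
    by_contra! e
    refine hA (nil_iff_syl_normal.2 fun q hq Q hQ => ?_)
    haveI := (hB q Q hQ).2
    exact (hT _ A).trans ((hQ.mono le_sup_right (sup_le hVA hQ.le)).norm_le_norm_of_normal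
      (sup_le (e q hq Q hQ) le_normalizer))
  obtain ⟨hQn, hBn⟩ := hB q Q hQ
  have hrq : r ≠ q := fun e => by
    subst e
    exact hVQ ((hQ.le_of_normal ⟨hVA, hT V A⟩ hVr).trans le_normalizer)
  have hQV : ¬ Q ≤ V := fun e => hVQ (le_norm_of_le_cent (hc.le_cent.trans (cent_anti e)))
  have hqp : q ≠ p := fun e => by
    subst e
    have k : PiGrp ({q} : Set ℕ)ᶜ (A.map φ) := by
      rw [hAd, map_Oup] at hA' ⊢
      exact piGrp_Oup hA'
    refine hQV fun y hy => (hker y).1 (mem_bot.1 ?_)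
    rw [← (hQ.piGrp.map φ).eq_bot (k.of_le (map_mono hQ.le))]
    exact mem_map_of_mem φ hy
  have hcop := coprime_of_isPGroup_ne hVr hQ.isPGroup hrq
  have hMV : 𝐍(Q) ⊔ V = ⊤ := by
    have := ((hQ.mono le_sup_right (sup_le hVA hQ.le)).frattini (normalIn_top.2 hBn)).sup_eq
    rwa [top_inf_eq, sup_assoc, sup_of_le_right le_normalizer, sup_comm] at this
  have hM := hV.inf_eq_bot_of_sup_eq_top hc (fun e => hVQ (le_top.trans e.ge)) hMV
  haveI hCn : (𝐂(V)).Normal := normalIn_top.1 ⟨le_top, le_norm_cent (hT V ⊤)⟩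
  have hC : 𝐂(V) ≤ V := by
    have k : 𝐍(Q) ⊓ 𝐂(V) = ⊥ := by_contra fun e => hVQ ((hm _ (normalIn_top.1 ⟨le_top, by
      rw [← hMV]
      exact sup_le (le_norm_inf le_normalizer (hT _ _))
        (le_norm_of_le_cent (le_cent_symm inf_le_right))⟩) e).trans inf_le_left)
    have := sup_inf_of_le_right (.inl (hT V 𝐍(Q))) hc.le_cent
    rw [hMV, top_inf_eq, k, bot_sup_eq] at this
    exact this.le
  obtain ⟨a, ha, hax⟩ : ∃ a ∈ Q, ⁅a, x⁆ ∉ V := by
    by_contra! e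
    haveI : (𝐂(Q.map φ)).Normal := normalIn_top.1 ⟨le_top, le_norm_cent (normalIn_top.2 hQn).norm⟩
    have k1 := hg _ (this.comap φ) (mem_cent_iff.2 (by
      rintro _ ⟨b, hb, rfl⟩
      exact commutatorElement_eq_one_iff_mul_comm.1 (by rw [← map_commutatorElement, hker]; exact e b hb)))
    have k2 : Syl q Q ⊤ := (hQ.hall.trans_of_relIndex le_top ((relIndex_Oup p ⊤).mono
      (by rintro _ rfl; exact hqp.symm))).syl
    have k3 := Burnside_normal_complement k2 fun g hg' => mem_cent_iff.2 fun b hb => by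
      refine commutatorElement_eq_one_iff_mul_comm.1 (mem_bot.1 ?_)
      rw [← inf_eq_bot_of_coprime_card hcop]
      refine mem_inf.2 ⟨(hker _).1 ?_, commutator_le_left' le_rfl (commutator_mem_commutator hb hg'.2)⟩
      rw [map_commutatorElement, commutatorElement_eq_one_iff_mul_comm]
      exact mem_cent_iff.1 (mem_comap.1 (k1.ge (mem_top g))) _ (mem_map_of_mem φ hb)
    have k4 : Op' q (⊤ : Subgroup G) = ⊤ := hg _ (normalIn_top.1 (Opi_normal _ _))
      ((pnil_of_sdprod k3 (Opi_piGrp _ _) k2.isPGroup).mem_of_normal (Opi_normal _ _).norm (mem_top x)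
        (hx.mono (by rintro _ rfl; exact hqp.symm)))
    have k5 := k3.inf_eq
    rw [k4, top_inf_eq] at k5
    exact hQV (k5 ▸ bot_le)
  have hL : closure {x, a} ⊔ V = ⊤ := by
    by_contra e
    have k1 := KK_normal p (closure {x, a} ⊔ V)
    have k2 := h1 _ e (mem_sup_left (left_mem_pair x a))
    have k3 : ⁅a, x⁆ ∈ KK p (closure {x, a} ⊔ V) :=
      mul_mem (k1.conj_mem (mem_sup_left (right_mem_pair x a)) k2) (inv_mem k2)
    have k4 := piElt_constt {q} ⁅a, x⁆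
    have k5 := Oup_KK_le p _ (mem_Oup (constt_mem {q} k3)
      (k4.coprime_of_disjoint (isPiNum_prime hp.out |>.2 (Set.mem_singleton p))
        (by rintro _ rfl; exact hqp)))
    refine hax (mem_of_constt_mem (π := {q}) (hC (le_cent_of_nil_of_coprime (Fit_nil _) (zpowers_le.2 k5)
      (le_Fit ⟨le_sup_right, hT V _⟩ (nil_of_ab hc)) (coprime_of_isPGroup_ne
        (isPGroup_zpowers_iff.2 k4) hVr hrq.symm) (mem_zpowers _))) ((hker _).1 ?_))
    rw [map_constt]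
    refine constt_eq_one ((hQ.piGrp.map φ).piElt ?_).compl_compl
    rw [map_commutatorElement, commutatorElement_def, mul_assoc, mul_assoc, ← mul_assoc (φ x)]
    exact mul_mem (mem_map_of_mem φ ha) (hQn.conj_mem _ (inv_mem (mem_map_of_mem φ ha)) _)
  have key : ∀ v : V, ∃ n : V, (n : G)⁻¹ * x * n ∈ 𝐍(Q) ∧ (n : G)⁻¹ * (v * a) * n ∈ 𝐍(Q) :=
    fun v => by
      obtain ⟨n, hn, k⟩ := exists_conj_norm hV hc hcop hBn (h2 (v * a)) (eq_top_iff.2 (hL ▸ sup_le
        (pair_le (mem_sup_left (left_mem_pair _ _)) (by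
          have := mul_mem (inv_mem (mem_sup_right (S := closure {x, v * a}) v.2))
            (mem_sup_left (right_mem_pair x (v * a)))
          rwa [inv_mul_cancel_left] at this)) le_sup_right))
      exact ⟨⟨n, hn⟩, k _ (left_mem_pair _ _), k _ (right_mem_pair _ _)⟩
  choose f f1 f2 using key
  have hf : Function.Surjective f := Finite.surjective_of_injective fun u v e => by
    have k1 := mul_mem (f2 u) (inv_mem (f2 v))
    have k2 : ((f v : G)⁻¹ * (u * (v : G)⁻¹) * f v) ∈ 𝐍(Q) ⊓ V := mem_inf.2 ⟨by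
      rw [e] at k1; convert k1 using 1; group,
      mul_mem (mul_mem (inv_mem (f v).2) (mul_mem u.2 (inv_mem v.2))) (f v).2⟩
    rw [hM, mem_bot, mul_assoc, inv_mul_eq_one, right_eq_mul, mul_inv_eq_one] at k2
    exact Subtype.ext k2
  have k1 : ∀ n ∈ V, n⁻¹ * x * n ∈ 𝐍(Q) := fun n hn => by
    obtain ⟨v, hv⟩ := hf ⟨n, hn⟩
    have := f1 v
    rwa [hv] at this
  have k2 := hg _ hCn (mem_cent_iff.2 fun n hn =>
    (Flav.comm_of_conj_mem hM (by simpa using k1 1 (one_mem V)) hn (k1 n hn)).symm)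
  exact hQV (le_top.trans (k2.ge.trans hC))

end Cfsg.Agent.F2
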