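import Cfsg.Agent.Lib.F2.DichB

/-!
# A maximal member and `x` lie in a unique maximal subgroup
-/

set_option autoImplicit false

namespace Cfsg.Agent.F2

open Subgroup Cfsg.Agent.OO Cfsg.Agent.Coprime
open scoped Pointwise commutatorElement

universe u

variable {G : Type u} [Group G] {p q r : ℕ} {x y g b c n w u : G}
  {A B E F H I K L M M' Q Q' S T U X : Subgroup G}

/-- the join of the conjugates of `Q` that lie in `H` together with the conjugate of `x` -/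
def VV (x : G) (Q H : Subgroup G) : Subgroup G :=
  sSup {X | ∃ g, g * x * g⁻¹ ∈ H ∧ g •ᶜ Q ≤ H ∧ X = g •ᶜ Q}

theorem le_VV (h1 : g * x * g⁻¹ ∈ H) (h2 : g •ᶜ Q ≤ H) : g •ᶜ Q ≤ VV x Q H :=
  le_sSup ⟨g, h1, h2, rfl⟩

theorem VV_le (h : ∀ g, g * x * g⁻¹ ∈ H → g •ᶜ Q ≤ H → g •ᶜ Q ≤ K) : VV x Q H ≤ K :=
  sSup_le fun _ ⟨g, h1, h2, e⟩ => e ▸ h g h1 h2

theorem VV_mono (h : H ≤ K) : VV x Q H ≤ VV x Q K := VV_le fun _ h1 h2 => le_VV (h h1) (h2.trans h)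

theorem norm_le_norm_VV (x : G) (Q H : Subgroup G) : 𝐍(H) ≤ 𝐍(VV x Q H) :=
  le_norm_sSup fun a ha _ ⟨g, h1, h2, e⟩ => ⟨a * g, by
    have := conj_mem_of_norm ha h1
    rwa [show a * (g * x * g⁻¹) * a⁻¹ = a * g * x * (a * g)⁻¹ by group] at this,
    conj_conj a g Q ▸ conj_le_of_mem_norm ha h2, by rw [e, conj_conj]⟩

/-- `M` is a maximal subgroup containing `x` and the maximal member `Q` -/
structure Asc (q : ℕ) (x : G) (Q M : Subgroup G) : Prop where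
  max : MaxM q x Q
  co : IsCoatom M
  x_mem : x ∈ M
  le : Q ≤ M

theorem Asc.conj (h : Asc q x Q M) (g : G) : Asc q (g * x * g⁻¹) (g •ᶜ Q) (g •ᶜ M) :=
  ⟨h.max.conj g, isCoatom_conj_iff.2 h.co, conj_mem_conj h.x_mem, conj_mono g h.le⟩

variable [Finite G]

theorem lt_norm_mod (hF : F ≤ I) (hI : I < L) (hL : L ≤ 𝐍(F)) (h : Nil (L ⁒ F)) :
    I < L ⊓ 𝐍(I) := by
  have h1 : F ⊴ I := ⟨hF, hI.le.trans hL⟩
  have h2 : F ⊴ L := ⟨hF.trans hI.le, hL⟩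
  have h3 := quoPre_lt_quoPre_iff.2 (lt_inf_norm_of_nil h ((quo_lt_quo_iff h1 h2).2 hI))
  rw [quoPre_inf, quoPre_norm, quoPre_quo h1, quoPre_quo h2] at h3
  exact h3.trans_le (inf_le_inf_left _ inf_le_right)

namespace Cex

variable [hp : Fact p.Prime] (h : Cex p x)
include h

omit [Finite G] hp in
theorem pg_quo (hH : H ≠ ⊤) : IsPGroup p (WW x H ⁒ Fit H : Subgroup _) := fun ⟨z, hz⟩ => by
  obtain ⟨w, h1, h2, rfl⟩ := mem_quo.1 hz
  obtain ⟨k, hk⟩ := h.h1 H hH w h1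
  exact ⟨k, Subtype.ext (by
    rw [SubmonoidClass.mk_pow]; exact (coset_pow h2 _).symm.trans (coset_eq_one hk))⟩

variable [hq : Fact q.Prime] (hqp : q ≠ p)
include hqp

theorem th_eq (hQ : MaxM q x Q) (hH : H ≠ ⊤) (hx : x ∈ H) (hle : Q ≤ H) : th q x H = Q :=
  hQ.max _ (h.mem_th hqp hx) (h.le_th hqp hH hx hQ.mem hle)

theorem VV_le_Op (hQ : MaxM q x Q) (hH : H ≠ ⊤) : VV x Q H ≤ Op q H := VV_le fun g h1 h2 =>
  (h.conj g).mem_le_Op hqp hH h1 (hQ.conj g).mem h2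

theorem Op_le_norm_VV (hQ : MaxM q x Q) (hH : H ≠ ⊤) (hI : I ≤ H) : Op q H ≤ 𝐍(VV x Q I) :=
  le_norm_sSup fun a ha _ ⟨g, h1, h2, e⟩ => ⟨g, h1, h2, by
    rw [e, ← (h.conj g).th_eq hqp (hQ.conj g) hH (hI h1) (h2.trans hI)]
    exact conj_eq_of_mem_norm (Op_le_norm_th ha)⟩

theorem lt_norm_VV (hQ : MaxM q x Q) (hM : M ≠ ⊤) (hI : I < M) : I < M ⊓ 𝐍(VV x Q I) := by
  refine (le_inf hI.le (le_normalizer.trans (norm_le_norm_VV x Q I))).lt_of_ne fun e => ?_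
  have hF : Fit M ≤ I := Fit_le_of_forall fun r _ => e ▸ le_inf (Op_le r M) (by
    by_cases hr : r = q
    · exact hr ▸ h.Op_le_norm_VV hqp hQ hM hI.le
    · exact le_norm_of_le_cent ((Op_le_cent_Op hr M).trans
        (cent_anti ((VV_mono hI.le).trans (h.VV_le_Op hqp hQ hM)))))
  have k1 : ∀ J ≤ M, VV x Q J ≤ VV x Q (J ⊓ (WW x M ⊔ Fit M)) := fun J hJ => VV_le fun g h1 h2 =>
    le_VV (mem_inf.2 ⟨h1, mem_sup_left (mem_WW (hJ h1))⟩) (le_inf h2 ((((le_VV h1 h2).trans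
      (VV_mono hJ)).trans ((h.VV_le_Op hqp hQ hM).trans (Op_le_Fit q M))).trans le_sup_right))
  rcases (inf_le_right : I ⊓ (WW x M ⊔ Fit M) ≤ _).lt_or_eq with hlt | e'
  · have hW : WW x M ≤ 𝐍(Fit M) := (WW_le x M).trans (Fit_normal M).2
    have k2 := lt_norm_mod (le_inf hF le_sup_right) hlt (sup_le hW le_normalizer)
      (by rw [quo_sup_self hW]; exact nil_of_isPGroup (h.pg_quo hM))
    refine k2.not_ge (le_inf (le_trans (le_inf (inf_le_left.trans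
      (sup_le (WW_le x M) (Fit_le M))) ?_) e.ge) inf_le_left)
    rw [le_antisymm (k1 I hI.le) (VV_mono inf_le_left)]
    exact inf_le_right.trans (norm_le_norm_VV x Q _)
  · refine hI.not_ge (le_trans (le_inf le_rfl ?_) e.ge)
    rw [le_antisymm (VV_mono hI.le) ((k1 M le_rfl).trans
      (VV_mono (inf_le_right.trans (e'.ge.trans inf_le_left))))]
    exact le_normalizer.trans (norm_le_norm_VV x Q M)

theorem zip_aux (hQ : MaxM q x Q) (I : Subgroup G) : ∀ M M' : Subgroup G, M ⊓ M' = I →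
    IsCoatom M → IsCoatom M' → g * x * g⁻¹ ∈ I → g •ᶜ Q ≤ I → M = M' := by
  induction I using WellFoundedGT.induction with | _ I ih => ?_
  intro M M' e hM hM' h1 h2
  by_contra hne
  have k1 : I < M := e ▸ inf_lt_left.2 fun hle => hne ((hM.le_iff_eq hM'.1).1 hle).symm
  have k2 : I < M' := e ▸ inf_lt_right.2 fun hle => hne ((hM'.le_iff_eq hM.1).1 hle)
  obtain ⟨N, n1, n2⟩ := Core.exists_coatom_ge (h.norm_ne_top' ((Op_isPGroup q M).to_le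
    ((VV_mono k1.le).trans (h.VV_le_Op hqp hQ hM.1)))
    (ne_bot_of_le_ne_bot (conj_eq_bot_iff.not.2 hQ.ne) (le_VV h1 h2)))
  replace k1 := (h.lt_norm_VV hqp hQ hM.1 k1).trans_le (inf_le_inf_left _ n2)
  replace k2 := (h.lt_norm_VV hqp hQ hM'.1 k2).trans_le (inf_le_inf_left _ n2)
  exact hne ((ih _ k1 M N rfl hM n1 (k1.le h1) (h2.trans k1.le)).trans
    (ih _ k2 M' N rfl hM' n1 (k2.le h1) (h2.trans k2.le)).symm)

theorem asc_eq (h1 : Asc q x Q M) (h2 : Asc q x Q M') : M = M' :=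
  h.zip_aux hqp (g := 1) h1.max _ M M' rfl h1.co h2.co (by simpa using ⟨h1.x_mem, h2.x_mem⟩)
    (by simpa using ⟨h1.le, h2.le⟩)

theorem le_asc (h1 : Asc q x Q M) (hH : H ≠ ⊤) (hx : x ∈ H) (hle : Q ≤ H) : H ≤ M := by
  obtain ⟨N, n1, n2⟩ := Core.exists_coatom_ge hH
  exact h.asc_eq hqp ⟨h1.max, n1, n2 hx, hle.trans n2⟩ h1 ▸ n2

omit hqp hp in
theorem exists_asc (hQ : MaxM q x Q) : ∃ M, Asc q x Q M := by
  obtain ⟨N, n1, n2⟩ := Core.exists_coatom_ge (h.norm_ne_top' hQ.mem.pg hQ.ne)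
  exact ⟨N, hQ, n1, n2 hQ.mem.norm, le_normalizer.trans n2⟩

theorem normQ_le (h1 : Asc q x Q M) : 𝐍(Q) ≤ M :=
  h.le_asc hqp h1 (h.norm_ne_top' h1.max.mem.pg h1.max.ne) h1.max.mem.norm le_normalizer

theorem normX_le (h1 : Asc q x Q M) : 𝐍(zpowers x) ≤ M :=
  (h.norm_X_le hqp h1.max).trans (h.normQ_le hqp h1)

theorem cent1_le_asc (h1 : Asc q x Q M) : 𝐂[x] ≤ M := (cent1_le_norm x).trans (h.normX_le hqp h1)

theorem le_Op_asc (h1 : Asc q x Q M) : Q ≤ Op q M :=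
  h.mem_le_Op hqp h1.co.1 h1.x_mem h1.max.mem h1.le

omit hqp hq [Finite G] in
theorem norm_eq (hM : IsCoatom M) (hx : x ∈ M) : 𝐍(M) = M :=
  (hM.le_iff_eq fun e => by
    have := h.core M M (normalizer_eq_top_iff.1 e) le_rfl hx hM.1
    rw [this, mem_bot] at hx
    exact h.ne_one hx).1 le_normalizer

end Cex

end Cfsg.Agent.F2
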